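/-
The automorphism group of a finite field.
-/
import Mathlib

set_option autoImplicit false

namespace Cfsg.Agent.Lib.Chev

section

variable {F : Type*} [Field F]

/-- Automorphisms of a field of characteristic `p` are linear over the prime field. -/
noncomputable def ringAutEquivGal (p : ℕ) [Fact p.Prime] [CharP F p] [Algebra (ZMod p) F] :
    (F ≃ₐ[ZMod p] F) ≃* (F ≃+* F) where
  toFun a := a.toRingEquiv
  invFun σ := AlgEquiv.ofRingEquiv (f := σ) (fun r => by
    have : (σ.toRingHom.comp (algebraMap (ZMod p) F)) = algebraMap (ZMod p) F := RingHom.ext_zmod _ _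
    exact DFunLike.congr_fun this r)
  left_inv a := by
    ext x
    rfl
  right_inv σ := by
    ext x
    rfl
  map_mul' a b := by
    ext x
    rfl

theorem card_ringAut [Fintype F] (p f : ℕ) [Fact p.Prime] [CharP F p] (hF : Fintype.card F = p ^ f) :
    Nat.card (F ≃+* F) = f := by
  letI := ZMod.algebra F p
  have hfin : Module.finrank (ZMod p) F = f := by
    have h := Module.card_eq_pow_finrank (K := ZMod p) (V := F)
    rw [hF, ZMod.card] at h
    exact ((Nat.pow_right_injective (Fact.out : p.Prime).two_le) h).symm
  rw [← Nat.card_congr (ringAutEquivGal (F := F) p).toEquiv, IsGalois.card_aut_eq_finrank, hfin]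

theorem isCyclic_ringAut [Finite F] : IsCyclic (F ≃+* F) := by
  obtain ⟨p, hp⟩ := CharP.exists F
  haveI : Fintype F := Fintype.ofFinite F
  haveI : Fact p.Prime := ⟨(CharP.char_is_prime_or_zero F p).resolve_right (fun h => by
    subst h
    exact CharP.ringChar_ne_zero_of_finite F (by rw [ringChar.eq F 0]))⟩
  letI := ZMod.algebra F p
  exact isCyclic_of_surjective (ringAutEquivGal (F := F) p) (ringAutEquivGal (F := F) p).surjective

end

end Cfsg.Agent.Lib.Chev
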