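/-
Automorphisms of Chevalley groups, ninth step: the field automorphisms at the nodes, for the identity permutation of
the nodes and when there is one root length.
-/
import Cfsg.Agent.Lib.ChevAut.Form

set_option autoImplicit false

namespace Cfsg.Agent.Lib.Chev

open Cfsg.Lie

section

variable {F : Type*} [Field F] {D : ChevalleyDatum} {T : Tbl}

/-- What remains of a standard automorphism: a symmetry of the diagram, and a field automorphism. -/
def TauOK (F : Type*) [Field F] (D : ChevalleyDatum) (π : Equiv.Perm (Fin D.rank)) (τ : Fin D.rank → (F ≃+* F)) : Prop :=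
  D.IsDiagramSymmetry π ∧ ∃ σ : F ≃+* F, ∀ (i : Fin D.rank) (t : F), τ i t = σ t ^ D.graphExp (ringChar F) i (π i)

lemma graphExp_self (D : ChevalleyDatum) (c i : ℕ) : D.graphExp c i i = 1 := by
  unfold ChevalleyDatum.graphExp
  rw [if_neg]
  simp

lemma graphExp_of_not_long (D : ChevalleyDatum) (c i j : ℕ) (h : D.isLong (D.simple j) = false) : D.graphExp c i j = 1 := by
  unfold ChevalleyDatum.graphExp
  rw [if_neg]
  simp [h]

namespace Tbl.Good2

variable {hG : T.Good2 D}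

namespace Form

variable {θ : ↥(D.group F) ≃* ↥(D.group F)} {π : Equiv.Perm (Fin D.rank)} {c : Fin D.rank → F}
  {τ : Fin D.rank → (F ≃+* F)}

/-- The images of root elements as a map of parameters. -/
lemma exists_param_xT {r s : ℕ} (hr : r < D.nroots) (hs : s < D.nroots)
    (he : (gX D F r).map θ.toMonoidHom = gX D F s) : ∃ f : F → F, ∀ v, θ (hG.xT r v) = hG.xT s (f v) := by
  obtain ⟨φ, hφ⟩ := hG.exists_param hr hs θ he
  refine ⟨φ, fun v => ?_⟩
  rw [hG.xT_of_lt hr, hG.xT_of_lt hs]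
  exact hφ v

/-- For the identity permutation, adjacent nodes have the same field automorphism. -/
lemma tau_id_adj (h : hG.Form θ π c τ) (hπ : ∀ i, π i = i)
    (hP : ∀ i j : Fin D.rank, i ≠ j → headPair D.nroots (D.commTerms (D.simple i) (D.simple j)) (D.bonds i j) = true)
    {a b : Fin D.rank} (hab : a ≠ b) (hb : D.bonds a b ≠ 0) : τ a = τ b := by
  rcases headPair_spec (hP a b hab) with ⟨-, h5⟩ | ⟨k, c', rest, h4, hc, -, hk, hrest⟩
  · exact absurd h5 hb
  have hpa := hG.simple_lt a.2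
  have hpb := hG.simple_lt b.2
  have h1 : D.simple b ≠ D.simple a := fun e => hab (Fin.ext (hG.simple_inj a.2 b.2 e.symm))
  have h2 := hG.simple_ne_neg b.2 a.2
  have hk' : k < D.nroots := hG.commTerms_lt hpa hpb (k, c', 1, 1) (by rw [h4]; simp)
  obtain ⟨f, hf⟩ := h.exists_f hπ
  refine hG.tau_of_head hpa hpb hk' hk h1 h2 θ f hf (h.c_ne a) (h.c_ne b) (fun t => ?_) (fun t => ?_) h4
    (fun e he => ⟨hrest e he, ?_⟩) (int_unit_ne hc)
  · have := h.pos a t
    rwa [hπ, hG.xT_of_lt hpa, hG.xT_of_lt hpa] at this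
  · have := h.pos b t
    rwa [hπ, hG.xT_of_lt hpb, hG.xT_of_lt hpb] at this
  · exact hG.commTerms_lt hpa hpb e (by rw [h4]; exact List.mem_cons_of_mem _ he)

/-- The identity permutation. -/
theorem tauOK_id (h : hG.Form θ π c τ) (hπ : ∀ i, π i = i)
    (hP : ∀ i j : Fin D.rank, i ≠ j → headPair D.nroots (D.commTerms (D.simple i) (D.simple j)) (D.bonds i j) = true)
    (dist : Fin D.rank → ℕ) (r₀ : Fin D.rank) (hd : ∀ j, j ≠ r₀ → ∃ i, dist i < dist j ∧ D.bonds i j ≠ 0) :
    TauOK F D π τ := by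
  refine ⟨fun i j _ => by rw [hπ, hπ], τ r₀, fun i t => ?_⟩
  have key := const_of_dist τ (fun i j => i ≠ j ∧ D.bonds i j ≠ 0) (fun i j e => h.tau_id_adj hπ hP e.1 e.2) dist r₀
    (fun j hj => by
      obtain ⟨i, hi, hi2⟩ := hd j hj
      refine ⟨i, hi, ?_, hi2⟩
      rintro rfl
      exact lt_irrefl _ hi)
  rw [hπ, graphExp_self, pow_one, key i]

/-- One root length and single bonds: adjacent nodes have the same field automorphism. -/
lemma tau_sl_adj (h : hG.Form θ π c τ)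
    (hP : ∀ i j : Fin D.rank, i ≠ j → slPair D.nroots (D.commTerms (D.simple i) (D.simple j)) (D.bonds i j) = true)
    {a b : Fin D.rank} (hab : a ≠ b) (hb : D.bonds a b ≠ 0) : τ a = τ b := by
  have hH : ∀ i j : Fin D.rank, i ≠ j → headPair D.nroots (D.commTerms (D.simple i) (D.simple j)) (D.bonds i j) = true := by
    intro i j hij
    have := hP i j hij
    simp only [slPair, Bool.and_eq_true] at this
    exact this.1.1
  have hab' : π a ≠ π b := fun e => hab (π.injective e)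
  have hb' : D.bonds (π a) (π b) ≠ 0 := fun e => hb ((h.bonds_iff hH hab).1 e)
  rcases slPair_spec (hP a b hab) with ⟨-, h5⟩ | ⟨k, c₁, h4, -, -, -⟩
  · exact absurd h5 hb
  rcases slPair_spec (hP (π a) (π b) hab') with ⟨-, h5⟩ | ⟨k', c₂, h4', hc', -, -⟩
  · exact absurd h5 hb'
  have hpa := hG.simple_lt a.2
  have hpb := hG.simple_lt b.2
  have hpa' := hG.simple_lt (π a).2
  have hpb' := hG.simple_lt (π b).2
  have h1 : D.simple b ≠ D.simple a := fun e => hab (Fin.ext (hG.simple_inj a.2 b.2 e.symm))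
  have h2 := hG.simple_ne_neg b.2 a.2
  have h1' : D.simple (π b) ≠ D.simple (π a) := fun e => hab' (Fin.ext (hG.simple_inj (π a).2 (π b).2 e.symm))
  have h2' := hG.simple_ne_neg (π b).2 (π a).2
  have hk' : k' < D.nroots := hG.commTerms_lt hpa' hpb' (k', c₂, 1, 1) (by rw [h4']; simp)
  exact hG.tau_of_single hpa hpb hpa' hpb' hk' h1 h2 h1' h2' θ (h.c_ne a) (h.c_ne b) (h.pos' a) (h.pos' b) h4 h4'
    (int_unit_ne hc')

/-- One root length and single bonds. -/
theorem tauOK_sl (h : hG.Form θ π c τ)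
    (hP : ∀ i j : Fin D.rank, i ≠ j → slPair D.nroots (D.commTerms (D.simple i) (D.simple j)) (D.bonds i j) = true)
    (dist : Fin D.rank → ℕ) (r₀ : Fin D.rank) (hd : ∀ j, j ≠ r₀ → ∃ i, dist i < dist j ∧ D.bonds i j ≠ 0)
    (hL : ∀ i : Fin D.rank, D.isLong (D.simple i) = false) :
    TauOK F D π τ := by
  have hH : ∀ i j : Fin D.rank, i ≠ j → headPair D.nroots (D.commTerms (D.simple i) (D.simple j)) (D.bonds i j) = true := by
    intro i j hij
    have := hP i j hij
    simp only [slPair, Bool.and_eq_true] at this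
    exact this.1.1
  refine ⟨fun i j hij => ?_, τ r₀, fun i t => ?_⟩
  · have hij' : π i ≠ π j := fun e => hij (π.injective e)
    have h0 := h.bonds_iff hH hij
    rcases slPair_spec (hP i j hij) with ⟨-, h5⟩ | ⟨k, c₁, -, -, h5, -⟩ <;>
      rcases slPair_spec (hP (π i) (π j) hij') with ⟨-, h6⟩ | ⟨k', c₂, -, -, h6, -⟩
    · rw [h5, h6]
    · rw [h5, h6] at h0
      simp at h0
    · rw [h5, h6] at h0
      simp at h0
    · rw [h5, h6]
  · have key := const_of_dist τ (fun i j => i ≠ j ∧ D.bonds i j ≠ 0) (fun i j e => h.tau_sl_adj hP e.1 e.2) dist r₀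
      (fun j hj => by
        obtain ⟨i, hi, hi2⟩ := hd j hj
        refine ⟨i, hi, ?_, hi2⟩
        rintro rfl
        exact lt_irrefl _ hi)
    rw [graphExp_of_not_long _ _ _ _ (hL (π i)), pow_one, key i]

/-- A pair of nodes with a single bond and its image: the same field automorphism. -/
lemma tau_single (h : hG.Form θ π c τ) {a b : Fin D.rank} (hab : a ≠ b) {k k' : ℕ} {c₁ c₂ : ℤ}
    (h4 : D.commTerms (D.simple a) (D.simple b) = [(k, c₁, 1, 1)])
    (h4' : D.commTerms (D.simple (π a)) (D.simple (π b)) = [(k', c₂, 1, 1)]) (hc' : c₂ = 1 ∨ c₂ = -1) : τ a = τ b := by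
  have hab' : π a ≠ π b := fun e => hab (π.injective e)
  have hpa := hG.simple_lt a.2
  have hpb := hG.simple_lt b.2
  have hpa' := hG.simple_lt (π a).2
  have hpb' := hG.simple_lt (π b).2
  have h1 : D.simple b ≠ D.simple a := fun e => hab (Fin.ext (hG.simple_inj a.2 b.2 e.symm))
  have h2 := hG.simple_ne_neg b.2 a.2
  have h1' : D.simple (π b) ≠ D.simple (π a) := fun e => hab' (Fin.ext (hG.simple_inj (π a).2 (π b).2 e.symm))
  have h2' := hG.simple_ne_neg (π b).2 (π a).2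
  have hk' : k' < D.nroots := hG.commTerms_lt hpa' hpb' (k', c₂, 1, 1) (by rw [h4']; simp)
  exact hG.tau_of_single hpa hpb hpa' hpb' hk' h1 h2 h1' h2' θ (h.c_ne a) (h.c_ne b) (h.pos' a) (h.pos' b) h4 h4'
    (int_unit_ne hc')

/-- Exchange of the two root lengths along a double bond. -/
lemma tau_swap2 (h : hG.Form θ π c τ) {a b : Fin D.rank} (hab : a ≠ b) (ha : π a = b) (hb : π b = a) {k₁ k₂ : ℕ}
    (hk₁ : T.refl a (D.simple b) = k₁) (hk₂ : T.refl b (D.simple a) = k₂) (hp : D.nroots / 2 ≤ k₁) (hlt : k₁ < k₂)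
    {c₁ c₂ d₁ d₂ : ℤ} (ht : D.commTerms (D.simple a) (D.simple b) = [(k₁, c₁, 1, 1), (k₂, c₂, 1, 2)])
    (ht' : D.commTerms (D.simple b) (D.simple a) = [(k₁, d₁, 1, 1), (k₂, d₂, 2, 1)]) (hd₁ : d₁ = 1 ∨ d₁ = -1) :
    (2 : F) = 0 ∧ ∀ u, τ b u = τ a u * τ a u := by
  have hpa := hG.simple_lt a.2
  have hpb := hG.simple_lt b.2
  have h1 : D.simple b ≠ D.simple a := fun e => hab (Fin.ext (hG.simple_inj a.2 b.2 e.symm))
  have h2 := hG.simple_ne_neg b.2 a.2
  have h1' : D.simple a ≠ D.simple b := fun e => hab (Fin.ext (hG.simple_inj a.2 b.2 e))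
  have h2' := hG.simple_ne_neg a.2 b.2
  have hA := h.pos' a
  have hB := h.pos' b
  have e₁ := h.step a hpb (hG.simple_lt (π b).2) (h.base_pos b)
  have e₂ := h.step b hpa (hG.simple_lt (π a).2) (h.base_pos a)
  rw [ha, hb, hk₁, hk₂] at e₁
  rw [hb, ha, hk₁, hk₂] at e₂
  have hk₁' : k₁ < D.nroots := by
    rw [← hk₁]
    exact hG.refl_lt' a.2 hpb
  have hk₂' : k₂ < D.nroots := by
    rw [← hk₂]
    exact hG.refl_lt' b.2 hpa
  obtain ⟨f₁, hf₁⟩ := exists_param_xT (hG := hG) hk₁' hk₂' e₁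
  obtain ⟨f₂, hf₂⟩ := exists_param_xT (hG := hG) hk₂' hk₁' e₂
  refine hG.tau_of_swap2 hpa hpb hk₁' hk₂' hp hlt h1 h2 h1' h2' θ (h.c_ne a) (h.c_ne b) (fun t => ?_) (fun t => ?_) f₁ f₂
    hf₁ hf₂ ht ht' (int_unit_ne hd₁)
  · rw [← hG.xT_of_lt, ← hG.xT_of_lt]
    have := h.pos a t
    rwa [ha] at this
  · rw [← hG.xT_of_lt, ← hG.xT_of_lt]
    have := h.pos b t
    rwa [hb] at this

end Form

end Tbl.Good2

end

end Cfsg.Agent.Lib.Chev
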