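/-
Automorphisms of Chevalley groups, tenth step: the decomposition of an automorphism, once the field automorphisms at
the nodes are known to come from one field automorphism.
-/
import Cfsg.Agent.Lib.ChevAut.Tau3
import Cfsg.Agent.Lib.Chev.FieldAut

set_option autoImplicit false

namespace Cfsg.Agent.Lib.Chev

open Cfsg.Lie

section

variable {F : Type*} [Field F] {D : ChevalleyDatum} {T : Tbl}

namespace Tbl.Good2

variable (hG : T.Good2 D)
include hG

/-- An element with the matrix of a root element. -/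
lemma eq_xT {g : ↥(D.group F)} {r : ℕ} {t : F} (h : ((g : GL D.Idx F) : Matrix D.Idx D.Idx F) = D.x F r t) :
    g = hG.xT r t := by
  apply Subtype.ext
  apply Units.ext
  rw [h, hG.xT_coe]

end Tbl.Good2

namespace Tbl.Good3

variable (hG : T.Good3 D)
include hG

/-- A standard automorphism, from its form. -/
theorem exists_decomp_of_form {θ : ↥(D.group F) ≃* ↥(D.group F)} {π : Equiv.Perm (Fin D.rank)} {c : Fin D.rank → F}
    {τ : Fin D.rank → (F ≃+* F)} (hF : hG.toGood2.Form θ π c τ) (hτ : TauOK F D π τ) :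
    ∃ d g f : ↥(D.group F) ≃* ↥(D.group F), D.IsDiagonalAut d ∧ D.IsGraphAut g ∧ D.IsFieldAut f ∧
      ∀ y, θ y = d (g (f y)) := by
  obtain ⟨hsym, σ, hσ⟩ := hτ
  obtain ⟨f, hf⟩ := exists_fieldAut D σ
  obtain ⟨A, hA⟩ := hG.exists_coef
  let c' : Fin D.rank → Fˣ := fun j => Units.mk0 (c (π⁻¹ j)) (hF.c_ne _)
  have hc' : ∀ i, ((c' (π i) : Fˣ) : F) = c i := fun i => by
    simp [c']
  obtain ⟨d, hd1, hd2⟩ := exists_diagAut (hG.toGood2.sane) (charOf_isChar hA c')
  have hx : ∀ {r : ℕ} (hr : r < D.nroots) (t : F), f (hG.toGood2.xT r t) = hG.toGood2.xT r (σ t) := fun {r} hr t =>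
    hG.toGood2.eq_xT (hf _ r t hr (hG.toGood2.xT_coe r t))
  have hx' : ∀ {r : ℕ} (hr : r < D.nroots) (t : F), f.symm (hG.toGood2.xT r t) = hG.toGood2.xT r (σ.symm t) := fun {r} hr t => by
    rw [MulEquiv.symm_apply_eq, hx hr, RingEquiv.apply_symm_apply]
  have hy : ∀ {r : ℕ} (hr : r < D.nroots) (t : F), d (hG.toGood2.xT r t) =
      hG.toGood2.xT r (((charOf D A c' r : Fˣ) : F) * t) := fun {r} hr t =>
    hG.toGood2.eq_xT (hd2 _ r t hr (hG.toGood2.xT_coe r t))
  refine ⟨d, (f.symm.trans θ).trans d.symm, f, ⟨_, charOf_isRoot hA c', hd1⟩, ⟨π, hsym, fun y i t => ⟨fun h => ?_, fun h => ?_⟩⟩,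
    ⟨σ, hf⟩, fun y => ?_⟩
  · have hp := hG.toGood2.simple_lt i.2
    have hp' := hG.toGood2.simple_lt (π i).2
    rw [hG.toGood2.eq_xT h]
    have e : ((f.symm.trans θ).trans d.symm) (hG.toGood2.xT (D.simple i) t) =
        hG.toGood2.xT (D.simple (π i)) (t ^ D.graphExp (ringChar F) i (π i)) := by
      show d.symm (θ (f.symm _)) = _
      rw [MulEquiv.symm_apply_eq, hx' hp, hF.pos, hy hp', hσ, RingEquiv.apply_symm_apply, charOf_simple hA, hc']
    rw [e, hG.toGood2.xT_coe]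
  · have hp := hG.toGood2.neg_lt (hG.toGood2.simple_lt i.2)
    have hp' := hG.toGood2.neg_lt (hG.toGood2.simple_lt (π i).2)
    rw [hG.toGood2.eq_xT h]
    have e : ((f.symm.trans θ).trans d.symm) (hG.toGood2.xT (D.neg (D.simple i)) t) =
        hG.toGood2.xT (D.neg (D.simple (π i))) (t ^ D.graphExp (ringChar F) i (π i)) := by
      show d.symm (θ (f.symm _)) = _
      rw [MulEquiv.symm_apply_eq, hx' hp, hF.neg, hy hp', hσ, RingEquiv.apply_symm_apply,
        charOf_neg hA _ (hG.toGood2.simple_lt (π i).2), charOf_simple hA, Units.val_inv_eq_inv_val, hc']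
    rw [e, hG.toGood2.xT_coe]
  · show θ y = d (d.symm (θ (f.symm (f y))))
    simp

/-- The decomposition of an automorphism. -/
theorem exists_decomp [Finite F] (hε : T.chkRank1 = true) (hW : W0s T D)
    (hτ : ∀ (θ : ↥(D.group F) ≃* ↥(D.group F)) (π : Equiv.Perm (Fin D.rank)) (c : Fin D.rank → F)
      (τ : Fin D.rank → (F ≃+* F)), hG.toGood2.Form θ π c τ → TauOK F D π τ)
    (θ : ↥(D.group F) ≃* ↥(D.group F)) :
    ∃ (x : ↥(D.group F)) (d g f : ↥(D.group F) ≃* ↥(D.group F)),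
      D.IsDiagonalAut d ∧ D.IsGraphAut g ∧ D.IsFieldAut f ∧ ∀ y : ↥(D.group F), θ y = x * d (g (f y)) * x⁻¹ := by
  obtain ⟨x, θ', hs, hx⟩ := exists_std hG θ
  obtain ⟨π, c, hc, τ, hform⟩ := hG.std_form (F := F) hε hW hs
  have hF : hG.toGood2.Form θ' π c τ :=
    { c_ne := hc
      pos := fun i t => by
        rw [hG.toGood2.xT_of_lt (hG.toGood2.simple_lt i.2), hG.toGood2.xT_of_lt (hG.toGood2.simple_lt (π i).2)]
        exact (hform i t).1
      neg := fun i t => by
        rw [hG.toGood2.xT_of_lt (hG.toGood2.neg_lt (hG.toGood2.simple_lt i.2)),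
          hG.toGood2.xT_of_lt (hG.toGood2.neg_lt (hG.toGood2.simple_lt (π i).2))]
        exact (hform i t).2 }
  obtain ⟨d, g, f, hd, hg, hf, he⟩ := hG.exists_decomp_of_form hF (hτ _ _ _ _ hF)
  exact ⟨x, d, g, f, hd, hg, hf, fun y => by rw [hx, he]⟩

end Tbl.Good3

end

end Cfsg.Agent.Lib.Chev
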