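/-
Elements of a Chevalley group with a diagonal matrix lie in the diagonal subgroup; the fundamental root elements and
their opposites generate the group, so automorphisms are determined by their action on them.
-/
import Cfsg.Agent.Lib.ChevAut.Decomp
import Cfsg.Agent.Lib.Chev.Canon

set_option autoImplicit false

namespace Cfsg.Agent.Lib.Chev

open Cfsg.Lie

section

variable {F : Type*} [Field F] {D : ChevalleyDatum} {T : Tbl}

namespace Tbl.Good2

lemma tri_mul {A B : Matrix D.Idx D.Idx F} (hA : ∀ row col, ordC D row < ordC D col → A row col = 0)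
    (hB : ∀ row col, ordC D row < ordC D col → B row col = 0) :
    ∀ row col, ordC D row < ordC D col → (A * B) row col = 0 := by
  intro row col h
  rw [Matrix.mul_apply]
  refine Finset.sum_eq_zero fun m _ => ?_
  by_cases hm : ordC D row < ordC D m
  · rw [hA row m hm, zero_mul]
  · rw [hB m col (by omega), mul_zero]

variable (hG : T.Good2 D)
include hG

/-- A word with triangular matrix acts trivially on the roots. -/
lemma wperm_trivial_of_tri {l : List ℕ} (hl : ∀ i ∈ l, i < D.rank)
    (hB : ∀ row col, ordC D row < ordC D col → ((hG.nProd (F := F) l : GL D.Idx F) : Matrix D.Idx D.Idx F) row col = 0) :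
    ∀ r, r < D.nroots → wperm T l r = r := by
  have h1 : ∀ r, r < D.nroots → r ≤ wperm T l r := by
    intro r hr
    by_contra hlt
    push_neg at hlt
    have hw := hG.wperm_lt hl hr
    obtain ⟨c, hc, e⟩ := hG.nProd_mulVec (F := F) hl hr
    have e2 := hB (Sum.inr ⟨wperm T l r, hw⟩) (Sum.inr ⟨r, hr⟩) (by
      simp only [ordC]
      split_ifs <;> omega)
    have e3 := mulVec_bvec_code (D := D) ((hG.nProd l : GL D.Idx F) : Matrix D.Idx D.Idx F) (Sum.inr ⟨r, hr⟩)
    have e4 : code D (Sum.inr ⟨r, hr⟩) = r := rfl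
    rw [e4, e] at e3
    have e5 := congrFun e3 (Sum.inr ⟨wperm T l r, hw⟩)
    simp only [Pi.smul_apply, smul_eq_mul, bvec, code, if_true, mul_one] at e5
    rw [e2] at e5
    exact hc e5
  have key : ∀ d r, r < D.nroots → D.nroots - r = d → wperm T l r = r := by
    intro d
    induction d using Nat.strong_induction_on with
    | _ d ih =>
      intro r hr hd
      by_contra hne
      have hlt : r < wperm T l r := lt_of_le_of_ne (h1 r hr) (Ne.symm hne)
      have hw := hG.wperm_lt hl hr
      have := ih (D.nroots - wperm T l r) (by omega) _ hw rfl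
      exact absurd (hG.wperm_inj hl hw hr this) (by omega)
  exact fun r hr => key _ r hr rfl

/-- An element of the group with triangular matrix is in `B`. -/
theorem mem_borel_of_tri {g : GL D.Idx F} (hg : g ∈ D.group F)
    (h1 : ∀ row col, ordC D row < ordC D col → (g : Matrix D.Idx D.Idx F) row col = 0) : g ∈ D.borelSubgroup F := by
  obtain ⟨n, hn, b, hb, b', hb', rfl⟩ := hG.bruhat_exists hg
  obtain ⟨h, hh, l, hl, rfl⟩ := hG.N_form hn
  have e : hG.nProd (F := F) l = (b * h)⁻¹ * (b * (h * hG.nProd l) * b') * b'⁻¹ := by group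
  have hH : h ∈ D.borelSubgroup F := le_borel_H hh
  have hbh : (b * h)⁻¹ ∈ D.borelSubgroup F := Subgroup.inv_mem _ (Subgroup.mul_mem _ hb hH)
  have htri : ∀ row col, ordC D row < ordC D col →
      ((hG.nProd (F := F) l : GL D.Idx F) : Matrix D.Idx D.Idx F) row col = 0 := by
    rw [e, Units.val_mul, Units.val_mul]
    exact tri_mul (tri_mul (fun row col h => hG.borel_entry hbh h) h1)
      (fun row col h => hG.borel_entry (Subgroup.inv_mem _ hb') h)
  have h3 := hG.wperm_trivial_of_tri hl htri
  have h4 := hG.nProd_mem_H (F := F) _ l rfl hl h3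
  exact Subgroup.mul_mem _ (Subgroup.mul_mem _ hb (Subgroup.mul_mem _ hH (le_borel_H h4))) hb'

/-- An element of the group with diagonal matrix is in `H`. -/
theorem mem_H_of_diag {g : GL D.Idx F} (hg : g ∈ D.group F) (hd : g ∈ diagSub D F) : g ∈ D.diagonalSubgroup F := by
  have hB : g ∈ D.borelSubgroup F := by
    refine hG.mem_borel_of_tri hg fun row col h => ?_
    obtain ⟨⟨d, hd'⟩, _⟩ := hd
    rw [hd']
    refine diagM_apply_ne d ?_
    rintro rfl
    exact lt_irrefl _ h
  obtain ⟨u, hu, k, hk, rfl⟩ := hG.mem_borel hB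
  have hk' := hG.diagonalSubgroup_le hk
  have hu' : u ∈ diagSub D F := by
    have := Subgroup.mul_mem _ hd (Subgroup.inv_mem _ hk')
    simpa using this
  rw [eq_one_of_diag (hG.posUnipotent_le hu) hu', one_mul]
  exact hk

/-- The fundamental root elements and their opposites generate the group. -/
theorem eq_top_of_simple (K : Subgroup ↥(D.group F))
    (h1 : ∀ (i : Fin D.rank) (t : F), hG.xT (D.simple i) t ∈ K)
    (h2 : ∀ (i : Fin D.rank) (t : F), hG.xT (D.neg (D.simple i)) t ∈ K) : K = ⊤ := by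
  have key : ∀ r, r < D.nroots → ∀ t : F, hG.xT r t ∈ K := by
    intro r hr
    refine hG.root_induction_simple (fun r => r < D.nroots → ∀ t : F, hG.xT r t ∈ K) ?_ ?_ r (hG.lt_n hr) hr
    · intro i hi _ t
      have hi' := hG.l_lt hi
      rw [hG.correct.simple_eq i hi']
      exact h1 ⟨i, hi'⟩ t
    · intro i r hi hr' ih hw t
      have hi' := hG.l_lt hi
      have hrn := hG.n_lt hr'
      have hwn := hG.refl_lt' hi' hrn
      have hε := hG.eps_ne (F := F) hi' hrn
      have hn : hG.nG (hG.simple_lt hi') 1 ∈ K := by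
        unfold nG
        refine K.mul_mem (K.mul_mem ?_ ?_) ?_
        · rw [← hG.xT_of_lt]
          exact h1 ⟨i, hi'⟩ _
        · rw [← hG.xT_of_lt]
          exact h2 ⟨i, hi'⟩ _
        · rw [← hG.xT_of_lt]
          exact h1 ⟨i, hi'⟩ _
      have e : hG.xT (T.refl i r) t = hG.nG (hG.simple_lt hi') 1 * hG.xT r (((T.eps i r : ℤ) : F)⁻¹ * t) *
          (hG.nG (hG.simple_lt hi') 1)⁻¹ := by
        rw [hG.xT_of_lt hwn, hG.xT_of_lt hrn]
        apply Subtype.ext
        show hG.xU hwn t = ((hG.nG (hG.simple_lt hi') 1 : ↥(D.group F)) : GL D.Idx F) * hG.xU hrn _ *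
          ((hG.nG (hG.simple_lt hi') 1 : ↥(D.group F)) : GL D.Idx F)⁻¹
        rw [hG.nG_coe, hG.nR_simple hi', hG.nU_conj hi' hrn, ← mul_assoc, mul_inv_cancel₀ hε, one_mul]
      rw [e]
      exact K.mul_mem (K.mul_mem hn (ih hrn _)) (K.inv_mem hn)
  rw [eq_top_iff]
  rintro ⟨g, hg⟩ -
  have hmem : D.group F ≤ K.map (D.group F).subtype := by
    refine (Subgroup.closure_le _).2 ?_
    rintro g ⟨r, t, hg'⟩
    refine ⟨hG.xT r.val t, key r.val r.2 t, ?_⟩
    apply Units.ext
    show ((hG.xT r.val t : ↥(D.group F)) : GL D.Idx F).val = g.val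
    rw [hG.xT_coe, hg']
    simp [ChevalleyDatum.x, r.2]
  obtain ⟨⟨y, hy⟩, hyK, e⟩ := hmem hg
  have e' : y = g := e
  subst e'
  exact hyK

/-- Two homomorphisms agreeing on the fundamental root elements and their opposites agree. -/
theorem hom_ext {H : Type*} [Group H] (φ ψ : ↥(D.group F) →* H)
    (h1 : ∀ (i : Fin D.rank) (t : F), φ (hG.xT (D.simple i) t) = ψ (hG.xT (D.simple i) t))
    (h2 : ∀ (i : Fin D.rank) (t : F), φ (hG.xT (D.neg (D.simple i)) t) = ψ (hG.xT (D.neg (D.simple i)) t)) : φ = ψ := by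
  have := hG.eq_top_of_simple (MonoidHom.eqLocus φ ψ) h1 h2
  ext y
  have hy : y ∈ MonoidHom.eqLocus φ ψ := by
    rw [this]
    trivial
  exact hy

end Tbl.Good2

end

end Cfsg.Agent.Lib.Chev
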