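/-
Exceptional graph automorphisms of Chevalley groups, first step. In characteristic `p` (2 for `B₂`, `F₄`, 3 for `G₂`) the
root vectors of short roots with part of the Cartan subalgebra span a subspace stable under the group, and the group
acts on this subspace and on the quotient. We record the algebra of the block diagonal part of a matrix, and of the
operation exchanging the two blocks and applying the Frobenius map to one of them.
-/
import Mathlib

set_option autoImplicit false

namespace Cfsg.Agent.Lib.Chev

section Block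

variable {ι : Type*} [Fintype ι] [DecidableEq ι] {K : Type*} [Field K]

/-- The block diagonal part of a matrix. -/
def bdM (bI : ι → Bool) (M : Matrix ι ι K) : Matrix ι ι K :=
  Matrix.of fun r c => if bI r = bI c then M r c else 0

omit [Fintype ι] [DecidableEq ι] in
@[simp] lemma bdM_apply (bI : ι → Bool) (M : Matrix ι ι K) (r c : ι) :
    bdM bI M r c = if bI r = bI c then M r c else 0 := rfl

/-- Matrices stabilising the first block. -/
def IsBlk (bI : ι → Bool) (M : Matrix ι ι K) : Prop :=
  ∀ r c, bI c = true → bI r = false → M r c = 0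

lemma bdM_one (bI : ι → Bool) : bdM bI (1 : Matrix ι ι K) = 1 := by
  ext r c
  rw [bdM_apply]
  by_cases h : r = c
  · subst h
    simp
  · rw [Matrix.one_apply_ne h]
    simp

lemma bdM_mul {bI : ι → Bool} {M N : Matrix ι ι K} (hM : IsBlk bI M) (hN : IsBlk bI N) :
    bdM bI (M * N) = bdM bI M * bdM bI N := by
  ext r c
  rw [bdM_apply, Matrix.mul_apply, Matrix.mul_apply]
  by_cases h : bI r = bI c
  · rw [if_pos h]
    refine Finset.sum_congr rfl fun m _ => ?_
    rw [bdM_apply, bdM_apply]
    by_cases h1 : bI r = bI m
    · rw [if_pos h1, if_pos (h1.symm.trans h)]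
    · rw [if_neg h1, zero_mul]
      have h2 : bI m ≠ bI c := fun e => h1 (h.trans e.symm)
      cases hr : bI r <;> cases hm : bI m <;> cases hc : bI c <;> simp_all [IsBlk]
  · rw [if_neg h]
    symm
    refine Finset.sum_eq_zero fun m _ => ?_
    rw [bdM_apply, bdM_apply]
    by_cases h1 : bI r = bI m
    · have h2 : bI m ≠ bI c := fun e => h (h1.trans e)
      rw [if_neg h2, mul_zero]
    · rw [if_neg h1, zero_mul]

/-- The exchange of the two blocks, with a ring map applied to the second. -/
def xiM (bI : ι → Bool) (pe : ι ≃ ι) (fr : K →+* K) (M : Matrix ι ι K) : Matrix ι ι K :=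
  Matrix.of fun r c => (if bI (pe c) = true then fr else RingHom.id K) (M (pe r) (pe c))

omit [Fintype ι] [DecidableEq ι] in
@[simp] lemma xiM_apply (bI : ι → Bool) (pe : ι ≃ ι) (fr : K →+* K) (M : Matrix ι ι K) (r c : ι) :
    xiM bI pe fr M r c = (if bI (pe c) = true then fr else RingHom.id K) (M (pe r) (pe c)) := rfl

lemma xiM_one (bI : ι → Bool) (pe : ι ≃ ι) (fr : K →+* K) : xiM bI pe fr (1 : Matrix ι ι K) = 1 := by
  ext r c
  rw [xiM_apply]
  by_cases h : r = c
  · subst h
    rw [Matrix.one_apply_eq, Matrix.one_apply_eq, map_one]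
  · rw [Matrix.one_apply_ne h, Matrix.one_apply_ne (fun e => h (pe.injective e)), map_zero]

lemma xiM_mul_bd {bI : ι → Bool} (pe : ι ≃ ι) (fr : K →+* K) (M N : Matrix ι ι K) :
    xiM bI pe fr (bdM bI M * bdM bI N) = xiM bI pe fr (bdM bI M) * xiM bI pe fr (bdM bI N) := by
  ext r c
  rw [xiM_apply, Matrix.mul_apply, Matrix.mul_apply, map_sum, ← Equiv.sum_comp pe]
  refine Finset.sum_congr rfl fun m _ => ?_
  rw [map_mul, xiM_apply, xiM_apply]
  by_cases h : bI (pe m) = bI (pe c)
  · rw [h]
  · rw [bdM_apply bI N (pe m) (pe c), if_neg h]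
    simp only [map_zero, mul_zero]

lemma xiM_injective {bI : ι → Bool} (pe : ι ≃ ι) (fr : K →+* K) {M : Matrix ι ι K}
    (h : xiM bI pe fr M = 1) : M = 1 := by
  ext r c
  have e := congrFun (congrFun h (pe.symm r)) (pe.symm c)
  rw [xiM_apply, Equiv.apply_symm_apply, Equiv.apply_symm_apply] at e
  by_cases hrc : r = c
  · subst hrc
    rw [Matrix.one_apply_eq] at e ⊢
    have e' : (if bI r = true then fr else RingHom.id K) (M r r) = (if bI r = true then fr else RingHom.id K) 1 := by
      rw [e, map_one]
    exact RingHom.injective _ e'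
  · rw [Matrix.one_apply_ne (fun e => hrc (pe.symm.injective e))] at e
    rw [Matrix.one_apply_ne hrc]
    have e' : (if bI c = true then fr else RingHom.id K) (M r c) = (if bI c = true then fr else RingHom.id K) 0 := by
      rw [e, map_zero]
    exact RingHom.injective _ e'

end Block

end Cfsg.Agent.Lib.Chev
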