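/-
Exceptional graph automorphisms of Chevalley groups, second step: the tables, and the identities they give for the
matrices of the root elements.
-/
import Cfsg.Agent.Lib.ChevAut.Exc1
import Cfsg.Agent.Lib.ChevAut.DiagMem

set_option autoImplicit false

namespace Cfsg.Agent.Lib.Chev

open Cfsg.Lie

/-- Filter with direct recursion. -/
noncomputable def filterF {α : Type*} (f : α → Bool) (l : List α) : List α :=
  List.rec (motive := fun _ => List α) [] (fun a _ ih => cond (f a) (a :: ih) ih) l

@[simp] lemma filterF_nil {α : Type*} (f : α → Bool) : filterF f [] = [] := rfl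

lemma filterF_cons {α : Type*} (f : α → Bool) (a : α) (l : List α) :
    filterF f (a :: l) = cond (f a) (a :: filterF f l) (filterF f l) := rfl

/-- Divisibility of an integer by a natural number. -/
def dvdZ (p : ℕ) (c : ℤ) : Bool := intEq (c % (p : ℤ)) 0

lemma dvdZ_spec {p : ℕ} {c : ℤ} (h : dvdZ p c = true) : (p : ℤ) ∣ c :=
  Int.dvd_of_emod_eq_zero (intEq_spec h)

/-- Equality of booleans with a direct definition. -/
def boolEq (a b : Bool) : Bool := cond a b (not b)

lemma boolEq_spec {a b : Bool} : boolEq a b = true ↔ a = b := by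
  cases a <;> cases b <;> decide

/-- The sparse vector `t` with one monomial. -/
def monoE (e : ℕ) : Poly := [⟨1, e, 0⟩]

/-- Equality of sparse vectors modulo `p`. -/
noncomputable def eqSVp (p : ℕ) (v w : SV) : Bool :=
  allF (fun q => dvdZ p q.c) (normalize (appendF v (mapF negTerm w)))

section

variable {F : Type*} [Field F] (D : ChevalleyDatum)

lemma val_of_dvd {p : ℕ} [CharP F p] {q : Term} (h : dvdZ p q.c = true) (t u : F) : q.val t u = 0 := by
  have : (q.c : F) = 0 := (CharP.intCast_eq_zero_iff F p q.c).2 (dvdZ_spec h)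
  simp [Term.val, this]

lemma toVec_of_all_dvd {p : ℕ} [CharP F p] {v : SV} (h : ∀ q ∈ v, dvdZ p q.c = true) (t u : F) : toVec D v t u = 0 := by
  induction v with
  | nil => simp
  | cons q v ih =>
    rw [toVec_cons, val_of_dvd (h q (by simp)), ih fun a ha => h a (List.mem_cons_of_mem _ ha)]
    simp

lemma eqSVp_spec {p : ℕ} [CharP F p] {v w : SV} (h : eqSVp p v w = true) (t u : F) : toVec D v t u = toVec D w t u := by
  have h1 := toVec_of_all_dvd D (allF_spec h) t u
  rw [toVec_normalize, appendF_eq, mapF_eq, toVec_append, toVec_map_negTerm] at h1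
  exact sub_eq_zero.1 (by rw [sub_eq_add_neg]; exact h1)

end

/-- Data for an exceptional graph automorphism. -/
structure ExcD (D : ChevalleyDatum) (T : Tbl) where
  p : ℕ
  inI : ℕ → Bool
  tau : ℕ → ℕ
  rho : ℕ → ℕ
  n_eq : T.n = D.nroots
  l_eq : T.l = D.rank
  tau_lt : ∀ r, r < D.nroots → tau r < D.nroots
  tau_tau : ∀ r, r < D.nroots → tau (tau r) = r
  inI_tau : ∀ r, r < D.nroots → inI (tau r) = !inI r
  rho_lt : ∀ i, i < D.rank → rho i < D.rank
  rho_rho : ∀ i, i < D.rank → rho (rho i) = i
  inI_rho : ∀ i, i < D.rank → inI (D.nroots + rho i) = !inI (D.nroots + i)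
  inv : ∀ r, r < D.nroots → ∀ k, k < D.nroots + D.rank → inI k = true →
    ∀ q ∈ T.act r (monoE 1) k, inI q.k = true ∨ dvdZ p q.c = true
  det : ∀ k, k < D.nroots → ∃ i, i < D.rank ∧ inI (D.nroots + i) = inI (D.neg k) ∧ dvdZ p ((D.coroot.getD k #[]).getD i 0) = false

namespace ExcD

variable {D : ChevalleyDatum} {T : Tbl} (E : ExcD D T)

/-- The permutation of the keys. -/
def piK (k : ℕ) : ℕ :=
  if k < D.nroots then E.tau k else if k < D.nroots + D.rank then D.nroots + E.rho (k - D.nroots) else k

lemma piK_piK (k : ℕ) : E.piK (E.piK k) = k := by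
  unfold piK
  by_cases h : k < D.nroots
  · rw [if_pos h, if_pos (E.tau_lt k h), E.tau_tau k h]
  · rw [if_neg h]
    by_cases h2 : k < D.nroots + D.rank
    · have h3 := E.rho_lt (k - D.nroots) (by omega)
      rw [if_pos h2, if_neg (by omega), if_pos (by omega), Nat.add_sub_cancel_left, E.rho_rho _ (by omega)]
      omega
    · rw [if_neg h2, if_neg h, if_neg h2]

lemma piK_inj {a b : ℕ} (h : E.piK a = E.piK b) : a = b := by
  rw [← E.piK_piK a, h, E.piK_piK]

/-- The permutation of the basis. -/
def pe : D.Idx ≃ D.Idx where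
  toFun x := match x with
    | Sum.inl i => Sum.inl ⟨E.rho i, E.rho_lt i i.2⟩
    | Sum.inr s => Sum.inr ⟨E.tau s, E.tau_lt s s.2⟩
  invFun x := match x with
    | Sum.inl i => Sum.inl ⟨E.rho i, E.rho_lt i i.2⟩
    | Sum.inr s => Sum.inr ⟨E.tau s, E.tau_lt s s.2⟩
  left_inv x := by
    rcases x with i | s
    · exact congrArg Sum.inl (Fin.ext (E.rho_rho i i.2))
    · exact congrArg Sum.inr (Fin.ext (E.tau_tau s s.2))
  right_inv x := by
    rcases x with i | s
    · exact congrArg Sum.inl (Fin.ext (E.rho_rho i i.2))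
    · exact congrArg Sum.inr (Fin.ext (E.tau_tau s s.2))

lemma pe_pe (x : D.Idx) : E.pe (E.pe x) = x := E.pe.left_inv x

lemma piK_root {k : ℕ} (h : k < D.nroots) : E.piK k = E.tau k := if_pos h

lemma piK_node {i : ℕ} (h : i < D.rank) : E.piK (D.nroots + i) = D.nroots + E.rho i := by
  unfold piK
  rw [if_neg (by omega), if_pos (by omega), Nat.add_sub_cancel_left]

lemma code_pe (x : D.Idx) : code D (E.pe x) = E.piK (code D x) := by
  rcases x with i | s
  · exact (E.piK_node i.2).symm
  · exact (E.piK_root s.2).symm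

/-- The block of a basis vector. -/
def bI (x : D.Idx) : Bool := E.inI (code D x)

lemma bI_pe (x : D.Idx) : E.bI (E.pe x) = !E.bI x := by
  rcases x with i | s
  · exact E.inI_rho i i.2
  · exact E.inI_tau s s.2

/-- The exponent attached to a root. -/
def exp (r : ℕ) : ℕ := if E.inI r = true then E.p else 1

/-- The terms in the first column, transported. -/
noncomputable def W (k : ℕ) (V : SV) : SV :=
  mapF (fun q => (⟨E.piK q.k, q.c, if E.inI k = true then E.p * q.a else q.a, q.b⟩ : Term))
    (filterF (fun q => boolEq (E.inI q.k) (E.inI k)) V)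

/-- The terms in the second column. -/
noncomputable def W' (k : ℕ) (V : SV) : SV := filterF (fun q => boolEq (E.inI q.k) (E.inI k)) V

end ExcD

end Cfsg.Agent.Lib.Chev
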