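/-
Exceptional graph automorphisms of Chevalley groups, third step: the group stabilises the block, and the exchange of
blocks takes root elements to root elements.
-/
import Cfsg.Agent.Lib.ChevAut.Exc2

set_option autoImplicit false

namespace Cfsg.Agent.Lib.Chev

open Cfsg.Lie

namespace ExcD

variable {D : ChevalleyDatum} {T : Tbl} (E : ExcD D T)

/-- The identity to be checked on the tables. -/
def Gen : Prop := ∀ r, r < D.nroots → ∀ k, k < D.nroots + D.rank →
  eqSVp E.p (E.W k (T.act r (monoE 1) k)) (E.W' (E.piK k) (T.act (E.tau r) (monoE (E.exp r)) (E.piK k))) = true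

variable {K : Type*} [Field K]

lemma monoE_val (e : ℕ) (t : K) : Poly.val (monoE e) t 1 = t ^ e := by
  simp [monoE, Poly.val, Mono.val]

/-- Entries of root elements as values of sparse vectors. -/
lemma x_entry (hT : T.Correct D) (hS : Sane D) {r : ℕ} (hr : r < D.nroots) (e : ℕ) (t : K) (row col : D.Idx) :
    D.x K r (t ^ e) row col = toVec D (T.act r (monoE e) (code D col)) t 1 row := by
  have h := Tbl.rep_act hT hS hr (monoE e) t (1 : K) (code D col)
  rw [monoE_val, mulVec_bvec_code] at h
  exact congrFun h row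

lemma x_entry' (hT : T.Correct D) (hS : Sane D) {r : ℕ} (hr : r < D.nroots) (t : K) (row col : D.Idx) :
    D.x K r t row col = toVec D (T.act r (monoE 1) (code D col)) t 1 row := by
  have := x_entry hT hS hr 1 t row col
  rwa [pow_one] at this

lemma toVec_cons_apply (q : Term) (v : SV) (t u : K) (x : D.Idx) :
    toVec D (q :: v) t u x = (if code D x = q.k then q.val t u else 0) + toVec D v t u x := by
  simp [toVec]

/-- Root elements stabilise the block. -/
lemma x_isBlk [CharP K E.p] (hT : T.Correct D) (hS : Sane D) {r : ℕ} (hr : r < D.nroots) (t : K) :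
    IsBlk E.bI (D.x K r t) := by
  intro row col h1 h2
  rw [x_entry' hT hS hr]
  have hinv := E.inv r hr (code D col) (code_lt D col) h1
  generalize T.act r (monoE 1) (code D col) = V at hinv
  unfold toVec
  refine List.sum_eq_zero ?_
  intro x hx
  obtain ⟨q, hq, rfl⟩ := List.mem_map.1 hx
  by_cases hc : code D row = q.k
  · rw [if_pos hc]
    rcases hinv q hq with h3 | h3
    · rw [← hc] at h3
      exact absurd h3 (by simpa [bI] using h2)
    · exact val_of_dvd h3 t 1
  · rw [if_neg hc]

/-- The group stabilises the block. -/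
theorem group_le_colStab [CharP K E.p] (hG : T.Good2 D) : D.group K ≤ colStab D K (fun x => E.bI x = true) := by
  refine (Subgroup.closure_le _).2 ?_
  rintro g ⟨r, t, hg⟩
  have hx : ∀ u : K, D.x K r.val u = D.xMat K r u := fun u => by simp [ChevalleyDatum.x, r.2]
  have hS := hG.sane
  have hT := hG.correct
  refine ⟨fun row col h1 h2 => ?_, fun row col h1 h2 => ?_⟩
  · rw [hg, ← hx]
    exact E.x_isBlk hT hS r.2 t row col h1 (by simpa using h2)
  · have e : g = hG.xU r.2 t := Units.ext (by rw [hg, ← hx]; rfl)
    rw [e, hG.xU_inv]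
    exact E.x_isBlk hT hS r.2 (-t) row col h1 (by simpa using h2)

lemma isBlk_of_mem [CharP K E.p] (hG : T.Good2 D) {g : GL D.Idx K} (hg : g ∈ D.group K) :
    IsBlk E.bI (g : Matrix D.Idx D.Idx K) := fun row col h1 h2 =>
  (E.group_le_colStab hG hg).1 row col h1 (by simpa using h2)

lemma isBlk_of_mem_inv [CharP K E.p] (hG : T.Good2 D) {g : GL D.Idx K} (hg : g ∈ D.group K) :
    IsBlk E.bI ((g⁻¹ : GL D.Idx K) : Matrix D.Idx D.Idx K) := fun row col h1 h2 =>
  (E.group_le_colStab hG hg).2 row col h1 (by simpa using h2)

/-- The Frobenius map of a field of characteristic `E.p`. -/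
noncomputable def fr (L : Type*) [Field L] [hp : Fact E.p.Prime] [CharP L E.p] : L →+* L :=
  haveI : ExpChar L E.p := ExpChar.prime hp.out
  frobenius L E.p

section

variable [hp : Fact E.p.Prime] [CharP K E.p]

lemma fr_apply (x : K) : E.fr K x = x ^ E.p :=
  haveI : ExpChar K E.p := ExpChar.prime hp.out
  frobenius_def E.p x

lemma fr_term (c : ℤ) (t : K) (a b : ℕ) : E.fr K ((c : K) * t ^ a * 1 ^ b) = (c : K) * t ^ (E.p * a) * 1 ^ b := by
  rw [map_mul, map_mul, map_intCast, map_pow, map_pow, map_one, fr_apply, ← pow_mul, mul_comm (E.p) a]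

lemma W_toVec (k : ℕ) (a : D.Idx) (hak : E.inI (code D a) = E.inI k) (V : SV) (t : K) :
    toVec D (E.W k V) t 1 (E.pe a) =
      (if E.inI k = true then E.fr K else RingHom.id K) (toVec D V t 1 a) := by
  induction V with
  | nil =>
    unfold W
    simp
  | cons q V ih =>
    have e : E.W k (q :: V) = cond (boolEq (E.inI q.k) (E.inI k))
        ((⟨E.piK q.k, q.c, if E.inI k = true then E.p * q.a else q.a, q.b⟩ : Term) :: E.W k V) (E.W k V) := by
      unfold W
      rw [filterF_cons]
      cases boolEq (E.inI q.k) (E.inI k) <;> rfl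
    rw [e, toVec_cons_apply, map_add, ← ih]
    by_cases h : E.inI q.k = E.inI k
    · rw [boolEq_spec.2 h, cond_true, toVec_cons_apply, E.code_pe]
      congr 1
      by_cases hc : code D a = q.k
      · rw [if_pos (by rw [hc]), if_pos hc]
        unfold Term.val
        simp only
        by_cases hk : E.inI k = true
        · simp only [hk, if_true]
          exact (E.fr_term q.c t q.a q.b).symm
        · simp only [hk, if_false]
          rfl
      · rw [if_neg fun e' => hc (E.piK_inj e'), if_neg hc, map_zero]
    · have hne : boolEq (E.inI q.k) (E.inI k) = false := by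
        rw [Bool.eq_false_iff]
        exact fun e' => h (boolEq_spec.1 e')
      rw [hne, cond_false]
      have hc : code D a ≠ q.k := fun e' => h (by rw [← e', hak])
      rw [if_neg hc, map_zero, zero_add]

lemma W'_toVec (k : ℕ) (a : D.Idx) (hak : E.inI (code D a) = E.inI k) (V : SV) (t : K) :
    toVec D (E.W' k V) t 1 a = toVec D V t 1 a := by
  induction V with
  | nil => rfl
  | cons q V ih =>
    have e : E.W' k (q :: V) = cond (boolEq (E.inI q.k) (E.inI k)) (q :: E.W' k V) (E.W' k V) := by
      unfold W'
      rw [filterF_cons]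
    rw [e, toVec_cons_apply]
    by_cases h : E.inI q.k = E.inI k
    · rw [boolEq_spec.2 h, cond_true, toVec_cons_apply, ih]
    · have hne : boolEq (E.inI q.k) (E.inI k) = false := by
        rw [Bool.eq_false_iff]
        exact fun e' => h (boolEq_spec.1 e')
      rw [hne, cond_false]
      have hc : code D a ≠ q.k := fun e' => h (by rw [← e', hak])
      rw [if_neg hc, zero_add, ih]

/-- The exchange of blocks on root elements. -/
theorem xi_x (hG : E.Gen) (hT : T.Correct D) (hS : Sane D) {r : ℕ} (hr : r < D.nroots) (t : K) :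
    xiM E.bI E.pe (E.fr K) (bdM E.bI (D.x K r t)) = bdM E.bI (D.x K (E.tau r) (t ^ E.exp r)) := by
  ext row col
  rw [xiM_apply, bdM_apply, bdM_apply]
  have h1 : (E.bI (E.pe row) = E.bI (E.pe col)) ↔ (E.bI row = E.bI col) := by
    rw [E.bI_pe, E.bI_pe]
    cases E.bI row <;> cases E.bI col <;> simp
  by_cases h : E.bI row = E.bI col
  · rw [if_pos (h1.2 h), if_pos h, x_entry' hT hS hr, x_entry hT hS (E.tau_lt r hr)]
    have hg := hG r hr (code D (E.pe col)) (code_lt D _)
    have hv := eqSVp_spec D hg t (1 : K)
    have e1 := congrFun hv row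
    have e2 : E.piK (code D (E.pe col)) = code D col := by
      rw [← E.code_pe, E.pe_pe]
    rw [e2] at e1
    have e3 := E.W_toVec (code D (E.pe col)) (E.pe row) (h1.2 h) (T.act r (monoE 1) (code D (E.pe col))) t
    rw [E.pe_pe] at e3
    rw [e3, E.W'_toVec (code D col) row h] at e1
    exact e1
  · rw [if_neg fun e => h (h1.1 e), if_neg h, map_zero]

end

end ExcD

end Cfsg.Agent.Lib.Chev
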