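/-
Exceptional graph automorphisms of Chevalley groups, fourth step: an element of the group with block diagonal part the
identity is the identity, and the exchange of blocks gives an automorphism of the group.
-/
import Cfsg.Agent.Lib.ChevAut.Exc3

set_option autoImplicit false

namespace Cfsg.Agent.Lib.Chev

open Cfsg.Lie

namespace ExcD

open Tbl.Good2

variable {D : ChevalleyDatum} {T : Tbl} (E : ExcD D T)

variable {K : Type*} [Field K] [CharP K E.p] (hG : T.Good2 D)

include hG

/-- The block diagonal part is multiplicative on the group. -/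
lemma bd_mul {g h : GL D.Idx K} (hg : g ∈ D.group K) (hh : h ∈ D.group K) :
    bdM E.bI ((g * h : GL D.Idx K) : Matrix D.Idx D.Idx K) =
      bdM E.bI (g : Matrix D.Idx D.Idx K) * bdM E.bI (h : Matrix D.Idx D.Idx K) := by
  rw [Units.val_mul]
  exact bdM_mul (E.isBlk_of_mem hG hg) (E.isBlk_of_mem hG hh)

lemma bd_inv_mul {g : GL D.Idx K} (hg : g ∈ D.group K) :
    bdM E.bI ((g⁻¹ : GL D.Idx K) : Matrix D.Idx D.Idx K) * bdM E.bI (g : Matrix D.Idx D.Idx K) = 1 := by
  rw [← E.bd_mul hG (Subgroup.inv_mem _ hg) hg, inv_mul_cancel, Units.val_one, bdM_one]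

omit [CharP K E.p] in
/-- The block diagonal part of an element of the Borel subgroup is triangular. -/
lemma bd_tri {b : GL D.Idx K} (hb : b ∈ D.borelSubgroup K) {row col : D.Idx} (h : ordC D row < ordC D col) :
    bdM E.bI (b : Matrix D.Idx D.Idx K) row col = 0 := by
  rw [bdM_apply, hG.borel_entry hb h]
  simp

/-- A monomial word preserves the blocks. -/
lemma nProd_block {l : List ℕ} (hl : ∀ i ∈ l, i < D.rank) {r : ℕ} (hr : r < D.nroots) :
    bdM E.bI ((hG.nProd (F := K) l : GL D.Idx K) : Matrix D.Idx D.Idx K)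
      (Sum.inr ⟨wperm T l r, hG.wperm_lt hl hr⟩) (Sum.inr ⟨r, hr⟩) ≠ 0 := by
  have hw := hG.wperm_lt hl hr
  have hn : hG.nProd (F := K) l ∈ D.group K := hG.N_le_group (hG.nProd_mem_N hl)
  obtain ⟨c, hc, e⟩ := hG.nProd_mulVec (F := K) hl hr
  have e3 := mulVec_bvec_code (D := D) ((hG.nProd l : GL D.Idx K) : Matrix D.Idx D.Idx K) (Sum.inr ⟨r, hr⟩)
  have e4 : code D (Sum.inr ⟨r, hr⟩) = r := rfl
  rw [e4, e] at e3
  have e5 := congrFun e3 (Sum.inr ⟨wperm T l r, hw⟩)
  simp only [Pi.smul_apply, smul_eq_mul, bvec, code, if_true, mul_one] at e5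
  have hinv : ((hG.nProd (F := K) l)⁻¹ : GL D.Idx K).val (Sum.inr ⟨r, hr⟩) (Sum.inr ⟨wperm T l r, hw⟩) = c⁻¹ := by
    have h1 : ((hG.nProd (F := K) l)⁻¹ : GL D.Idx K).val.mulVec (bvec D K (wperm T l r)) = c⁻¹ • bvec D K r := by
      have h2 := congrArg (((hG.nProd (F := K) l)⁻¹ : GL D.Idx K).val.mulVec) e
      rw [Matrix.mulVec_mulVec, ← Units.val_mul, inv_mul_cancel, Units.val_one, Matrix.one_mulVec,
        Matrix.mulVec_smul] at h2
      rw [h2, smul_smul, inv_mul_cancel₀ hc, one_smul]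
    have e6 := mulVec_bvec_code (D := D) ((hG.nProd (F := K) l)⁻¹ : GL D.Idx K).val (Sum.inr ⟨wperm T l r, hw⟩)
    have e7 : code D (Sum.inr ⟨wperm T l r, hw⟩) = wperm T l r := rfl
    rw [e7, h1] at e6
    have e8 := congrFun e6 (Sum.inr ⟨r, hr⟩)
    simp only [Pi.smul_apply, smul_eq_mul, bvec, code, if_true, mul_one] at e8
    exact e8.symm
  rw [bdM_apply, if_pos]
  · rw [← e5]
    exact hc
  · cases h1 : E.bI (Sum.inr ⟨wperm T l r, hw⟩) <;> cases h2 : E.bI (Sum.inr ⟨r, hr⟩)
    · rfl
    · have := E.isBlk_of_mem hG hn _ _ h2 h1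
      rw [← e5] at this
      exact absurd this hc
    · have := E.isBlk_of_mem_inv hG hn _ _ h1 h2
      rw [hinv] at this
      exact absurd this (inv_ne_zero hc)
    · rfl

omit [CharP K E.p] in
/-- A permutation of the roots moving no root down is trivial. -/
lemma wperm_trivial_of_le {l : List ℕ} (hl : ∀ i ∈ l, i < D.rank)
    (h1 : ∀ r, r < D.nroots → r ≤ wperm T l r) : ∀ r, r < D.nroots → wperm T l r = r := by
  have key : ∀ d r, r < D.nroots → D.nroots - r = d → wperm T l r = r := by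
    intro d
    induction d using Nat.strong_induction_on with
    | _ d ih =>
      intro r hr hd
      by_contra hne
      have hlt : r < wperm T l r := lt_of_le_of_ne (h1 r hr) (Ne.symm hne)
      have hw := hG.wperm_lt hl hr
      have := ih (D.nroots - wperm T l r) (by omega) _ hw rfl
      exact absurd (hG.wperm_inj hl hw hr this) (by omega)
  exact fun r hr => key _ r hr rfl

/-- An element of the group with block diagonal part the identity is in the Borel subgroup. -/
theorem mem_borel_of_bd {g : GL D.Idx K} (hg : g ∈ D.group K) (h1 : bdM E.bI (g : Matrix D.Idx D.Idx K) = 1) :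
    g ∈ D.borelSubgroup K := by
  obtain ⟨n, hn, b, hb, b', hb', rfl⟩ := hG.bruhat_exists hg
  obtain ⟨h, hh, l, hl, rfl⟩ := hG.N_form hn
  have hH : h ∈ D.borelSubgroup K := le_borel_H hh
  have hbh : (b * h)⁻¹ ∈ D.borelSubgroup K := Subgroup.inv_mem _ (Subgroup.mul_mem _ hb hH)
  have hb'i := Subgroup.inv_mem _ hb'
  have hgrp := hG.B_le_group (F := K)
  have e : hG.nProd (F := K) l = (b * h)⁻¹ * (b * (h * hG.nProd l) * b') * b'⁻¹ := by group
  have e' : bdM E.bI ((hG.nProd (F := K) l : GL D.Idx K) : Matrix D.Idx D.Idx K) =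
      bdM E.bI (((b * h)⁻¹ : GL D.Idx K) : Matrix D.Idx D.Idx K) *
        bdM E.bI ((b'⁻¹ : GL D.Idx K) : Matrix D.Idx D.Idx K) := by
    conv_lhs => rw [e]
    rw [E.bd_mul hG (Subgroup.mul_mem _ (hgrp hbh) hg) (hgrp hb'i), E.bd_mul hG (hgrp hbh) hg, h1, mul_one]
  have htri : ∀ row col, ordC D row < ordC D col →
      bdM E.bI ((hG.nProd (F := K) l : GL D.Idx K) : Matrix D.Idx D.Idx K) row col = 0 := by
    rw [e']
    exact tri_mul (fun row col h => E.bd_tri hG hbh h) (fun row col h => E.bd_tri hG hb'i h)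
  have h3 : ∀ r, r < D.nroots → r ≤ wperm T l r := by
    intro r hr
    by_contra hlt
    push_neg at hlt
    have hw := hG.wperm_lt hl hr
    refine E.nProd_block hG (K := K) hl hr (htri _ _ ?_)
    simp only [ordC]
    split_ifs <;> omega
  have h4 := hG.nProd_mem_H (F := K) _ l rfl hl (wperm_trivial_of_le hG hl h3)
  exact Subgroup.mul_mem _ (Subgroup.mul_mem _ hb (Subgroup.mul_mem _ hH (le_borel_H h4))) hb'

/-- An element of `U` with block diagonal part the identity is the identity. -/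
theorem U_of_bd {u : GL D.Idx K} (h1 : bdM E.bI (u : Matrix D.Idx D.Idx K) = 1) :
    ∀ m k, D.nroots / 2 ≤ k → k + m = D.nroots → u ∈ Uge D K k → u = 1 := by
  intro m
  induction m with
  | zero =>
    intro k _ hk hu
    have : k = D.nroots := by omega
    subst this
    rw [Uge_top] at hu
    exact Subgroup.mem_bot.1 hu
  | succ m ih =>
    intro k hk hkm hu
    have hk' : k < D.nroots := by omega
    obtain ⟨t, u', hu', e⟩ := hG.Uge_mul hk' hk hu
    obtain ⟨i, hi, h2, h3⟩ := E.det k hk'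
    have e1 := hG.extract hk' hk hu' t hi
    rw [← e] at e1
    have e2 : bdM E.bI (u : Matrix D.Idx D.Idx K) (Sum.inl ⟨i, hi⟩) (Sum.inr ⟨D.neg k, hG.neg_lt hk'⟩) =
        (u : Matrix D.Idx D.Idx K) (Sum.inl ⟨i, hi⟩) (Sum.inr ⟨D.neg k, hG.neg_lt hk'⟩) := by
      rw [bdM_apply, if_pos]
      exact h2
    rw [h1, Matrix.one_apply_ne (by simp), e1] at e2
    have hc : (((D.coroot.getD k #[]).getD i 0 : ℤ) : K) ≠ 0 := by
      intro hc
      have := (CharP.intCast_eq_zero_iff K E.p _).1 hc
      have h5 : dvdZ E.p ((D.coroot.getD k #[]).getD i 0) = true := by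
        unfold dvdZ intEq
        simpa using Int.emod_eq_zero_of_dvd this
      rw [h3] at h5
      cases h5
    have ht : t = 0 := by
      rcases mul_eq_zero.1 e2.symm with h | h
      · exact absurd h hc
      · exact h
    subst ht
    have hx : hG.xU hk' (0 : K) = 1 := Units.ext ((hG.x_eq_one_iff hk' 0).2 rfl)
    rw [hx, one_mul] at e
    subst e
    exact ih (k + 1) (by omega) (by omega) hu'

/-- An element of the group with block diagonal part the identity is the identity. -/
theorem eq_one_of_bd {g : GL D.Idx K} (hg : g ∈ D.group K) (h1 : bdM E.bI (g : Matrix D.Idx D.Idx K) = 1) : g = 1 := by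
  obtain ⟨u, hu, k, hk, rfl⟩ := hG.mem_borel (E.mem_borel_of_bd hG hg h1)
  obtain ⟨⟨d, hd⟩, _⟩ := hG.diagonalSubgroup_le hk
  have hk1 : (k : Matrix D.Idx D.Idx K) = 1 := by
    ext x y
    by_cases hxy : x = y
    · subst hxy
      have e1 := congrFun (congrFun h1 x) x
      rw [bdM_apply, if_pos rfl, Matrix.one_apply_eq, Units.val_mul, hd] at e1
      unfold diagM at e1
      rw [Matrix.mul_diagonal, hG.U_diag hu, one_mul] at e1
      rw [hd, Matrix.one_apply_eq]
      unfold diagM
      rw [Matrix.diagonal_apply_eq]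
      exact e1
    · rw [hd, Matrix.one_apply_ne hxy]
      exact diagM_apply_ne d hxy
  have hk2 : k = 1 := Units.ext hk1
  subst hk2
  rw [mul_one] at h1 ⊢
  rw [← hG.Uge_half] at hu
  have hm := hG.even_n
  exact E.U_of_bd hG h1 (D.nroots / 2) _ le_rfl (by omega) hu

end ExcD

end Cfsg.Agent.Lib.Chev
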