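/-
Exceptional graph automorphisms of Chevalley groups, fifth step: the automorphism.
-/
import Cfsg.Agent.Lib.ChevAut.Exc4

set_option autoImplicit false

namespace Cfsg.Agent.Lib.Chev

open Cfsg.Lie

namespace ExcD

open Tbl.Good2

variable {D : ChevalleyDatum} {T : Tbl} (E : ExcD D T)

variable {K : Type*} [Field K] [hp : Fact E.p.Prime] [CharP K E.p] (hG : T.Good2 D)

/-- The exchange of blocks on a matrix of the group. -/
noncomputable def gam (L : Type*) [Field L] [hp : Fact E.p.Prime] [CharP L E.p] (M : Matrix D.Idx D.Idx L) :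
    Matrix D.Idx D.Idx L := xiM E.bI E.pe (E.fr L) (bdM E.bI M)

include hG

lemma gam_mul {g h : GL D.Idx K} (hg : g ∈ D.group K) (hh : h ∈ D.group K) :
    E.gam K ((g * h : GL D.Idx K) : Matrix D.Idx D.Idx K) =
      E.gam K (g : Matrix D.Idx D.Idx K) * E.gam K (h : Matrix D.Idx D.Idx K) := by
  unfold gam
  rw [E.bd_mul hG hg hh, xiM_mul_bd]

lemma gam_inv_mul {g : GL D.Idx K} (hg : g ∈ D.group K) :
    E.gam K ((g⁻¹ : GL D.Idx K) : Matrix D.Idx D.Idx K) * E.gam K (g : Matrix D.Idx D.Idx K) = 1 := by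
  rw [← E.gam_mul hG (Subgroup.inv_mem _ hg) hg, inv_mul_cancel, Units.val_one]
  unfold gam
  rw [bdM_one, xiM_one]

lemma exists_image (hGen : E.Gen) {g : GL D.Idx K} (hg : g ∈ D.group K) :
    ∃ g' ∈ D.group K, E.gam K (g : Matrix D.Idx D.Idx K) = bdM E.bI (g' : Matrix D.Idx D.Idx K) := by
  induction hg using Subgroup.closure_induction with
  | mem g hg =>
    obtain ⟨r, t, hg⟩ := hg
    have hx : D.x K r.val t = D.xMat K r t := by simp [ChevalleyDatum.x, r.2]
    refine ⟨hG.xU (E.tau_lt r r.2) (t ^ E.exp r), x_mem_group (E.tau_lt r r.2) (Tbl.Good.xU_coe _ _ _), ?_⟩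
    rw [hg, ← hx]
    exact E.xi_x hGen hG.correct hG.sane r.2 t
  | one =>
    refine ⟨1, Subgroup.one_mem _, ?_⟩
    unfold gam
    rw [Units.val_one, bdM_one, xiM_one]
  | mul a b ha hb iha ihb =>
    obtain ⟨a', ha', ea⟩ := iha
    obtain ⟨b', hb', eb⟩ := ihb
    refine ⟨a' * b', Subgroup.mul_mem _ ha' hb', ?_⟩
    rw [E.gam_mul hG ha hb, E.bd_mul hG ha' hb', ea, eb]
  | inv a ha iha =>
    obtain ⟨a', ha', ea⟩ := iha
    refine ⟨a'⁻¹, Subgroup.inv_mem _ ha', ?_⟩
    have h1 := E.gam_inv_mul hG ha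
    rw [ea] at h1
    have h2 := E.bd_inv_mul hG ha'
    exact left_inv_eq_right_inv h1 (mul_eq_one_comm.1 h2)

omit hp in
lemma eq_of_bd_eq {g h : GL D.Idx K} (hg : g ∈ D.group K) (hh : h ∈ D.group K)
    (e : bdM E.bI (g : Matrix D.Idx D.Idx K) = bdM E.bI (h : Matrix D.Idx D.Idx K)) : g = h := by
  have h1 := E.eq_one_of_bd hG (g := g⁻¹ * h) (Subgroup.mul_mem _ (Subgroup.inv_mem _ hg) hh) (by
    rw [E.bd_mul hG (Subgroup.inv_mem _ hg) hh, ← e, E.bd_inv_mul hG hg])
  exact (inv_mul_eq_one.1 h1)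

/-- The exceptional graph automorphism. -/
theorem exists_aut (hGen : E.Gen) (hperf : ∀ x : K, ∃ y : K, y ^ E.p = x) :
    ∃ α : ↥(D.group K) ≃* ↥(D.group K), ∀ r, r < D.nroots → ∀ t : K,
      α (hG.xT r t) = hG.xT (E.tau r) (t ^ E.exp r) := by
  choose f hf1 hf2 using fun g : ↥(D.group K) => E.exists_image hG hGen g.2
  let α : ↥(D.group K) →* ↥(D.group K) := MonoidHom.mk' (fun g => ⟨f g, hf1 g⟩) (fun a b => by
    apply Subtype.ext
    refine E.eq_of_bd_eq hG (hf1 _) (Subgroup.mul_mem _ (hf1 a) (hf1 b)) ?_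
    have e := E.bd_mul hG (hf1 a) (hf1 b)
    show bdM E.bI ((f (a * b) : GL D.Idx K) : Matrix D.Idx D.Idx K) = bdM E.bI ((f a * f b : GL D.Idx K) : Matrix D.Idx D.Idx K)
    rw [e, ← hf2, ← hf2, ← hf2]
    exact E.gam_mul hG a.2 b.2)
  have hα : ∀ g : ↥(D.group K), E.gam K (((g : GL D.Idx K)) : Matrix D.Idx D.Idx K) =
      bdM E.bI (((α g : ↥(D.group K)) : GL D.Idx K) : Matrix D.Idx D.Idx K) := hf2
  have hx : ∀ r, r < D.nroots → ∀ t : K, α (hG.xT r t) = hG.xT (E.tau r) (t ^ E.exp r) := by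
    intro r hr t
    apply Subtype.ext
    refine E.eq_of_bd_eq hG (α _).2 (hG.xT _ _).2 ?_
    rw [← hα, hG.xT_coe, hG.xT_coe]
    exact E.xi_x hGen hG.correct hG.sane hr t
  have hinj : Function.Injective α := by
    rw [injective_iff_map_eq_one]
    intro g hg
    apply Subtype.ext
    refine E.eq_one_of_bd hG g.2 ?_
    have h1 := hα g
    rw [hg] at h1
    refine xiM_injective (bI := E.bI) E.pe (E.fr K) ?_
    exact h1.trans (by simp [bdM_one])
  have hsurj : Function.Surjective α := by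
    have hr : α.range = ⊤ := by
      rw [eq_top_iff]
      rintro ⟨g, hg⟩ -
      induction hg using Subgroup.closure_induction with
      | mem g hg =>
        obtain ⟨r, t, hg⟩ := hg
        have hr := r.2
        have hx' : ∃ y : K, y ^ E.exp (E.tau r) = t := by
          unfold exp
          split_ifs
          · exact hperf t
          · exact ⟨t, pow_one t⟩
        obtain ⟨y, hy⟩ := hx'
        refine ⟨hG.xT (E.tau r) y, ?_⟩
        rw [hx _ (E.tau_lt r r.2), hy, E.tau_tau r r.2]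
        apply Subtype.ext
        apply Units.ext
        rw [hG.xT_coe, hg]
        simp [ChevalleyDatum.x, r.2]
      | one => exact Subgroup.one_mem _
      | mul a b ha hb iha ihb => exact Subgroup.mul_mem α.range iha ihb
      | inv a ha iha => exact Subgroup.inv_mem α.range iha
    exact MonoidHom.range_eq_top.1 hr
  exact ⟨MulEquiv.ofBijective α ⟨hinj, hsurj⟩, hx⟩

end ExcD

end Cfsg.Agent.Lib.Chev
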