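/-
Exceptional graph automorphisms of Chevalley groups, sixth step: the checks on the tables in a form for the kernel.
-/
import Cfsg.Agent.Lib.ChevAut.Exc5

set_option autoImplicit false

namespace Cfsg.Agent.Lib.Chev

open Cfsg.Lie

/-- Digit tables for the data of an exceptional graph automorphism. -/
structure ExcIn where
  p : ℕ
  mask : ℕ
  tauD : ℕ
  rhoD : ℕ
  detD : ℕ

namespace ExcIn

variable (I : ExcIn)

/-- Membership in the first block. -/
def inI (k : ℕ) : Bool := Nat.beq (digit I.mask 1 k) 1

/-- The permutation of the roots. -/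
def tau (r : ℕ) : ℕ := digit I.tauD 6 r

/-- The permutation of the nodes. -/
def rho (i : ℕ) : ℕ := digit I.rhoD 3 i

/-- A witness for `det`. -/
def detW (k : ℕ) : ℕ := digit I.detD 3 k

/-- The checks behind `ExcD`. -/
noncomputable def chk (D : ChevalleyDatum) (T : Tbl) : Bool :=
  and (Nat.beq T.n D.nroots) <| and (Nat.beq T.l D.rank) <|
  and (allBelow D.nroots fun r => and (Nat.blt (I.tau r) D.nroots) (and (Nat.beq (I.tau (I.tau r)) r)
    (boolEq (I.inI (I.tau r)) (not (I.inI r))))) <|
  and (allBelow D.rank fun i => and (Nat.blt (I.rho i) D.rank) (and (Nat.beq (I.rho (I.rho i)) i)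
    (boolEq (I.inI (D.nroots + I.rho i)) (not (I.inI (D.nroots + i)))))) <|
  and (allBelow D.nroots fun r => allBelow (D.nroots + D.rank) fun k =>
    cond (I.inI k) (allF (fun q => or (I.inI q.k) (dvdZ I.p q.c)) (T.act r (monoE 1) k)) true) <|
  allBelow D.nroots fun k => and (Nat.blt (I.detW k) D.rank) (and (boolEq (I.inI (D.nroots + I.detW k)) (I.inI (D.neg k)))
    (not (dvdZ I.p ((D.coroot.getD k #[]).getD (I.detW k) 0))))

variable {I} {D : ChevalleyDatum} {T : Tbl}

lemma blt_spec {a b : ℕ} (h : Nat.blt a b = true) : a < b := by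
  simpa [Nat.blt] using h

/-- The data from the checks. -/
def toD (I : ExcIn) (D : ChevalleyDatum) (T : Tbl) (h : I.chk D T = true) : ExcD D T where
  p := I.p
  inI := I.inI
  tau := I.tau
  rho := I.rho
  n_eq := by
    simp only [chk, Bool.and_eq_true] at h
    exact Nat.eq_of_beq_eq_true h.1
  l_eq := by
    simp only [chk, Bool.and_eq_true] at h
    exact Nat.eq_of_beq_eq_true h.2.1
  tau_lt := by
    simp only [chk, Bool.and_eq_true] at h
    intro r hr
    have := allBelow_spec h.2.2.1 r hr
    simp only [Bool.and_eq_true] at this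
    exact blt_spec this.1
  tau_tau := by
    simp only [chk, Bool.and_eq_true] at h
    intro r hr
    have := allBelow_spec h.2.2.1 r hr
    simp only [Bool.and_eq_true] at this
    exact Nat.eq_of_beq_eq_true this.2.1
  inI_tau := by
    simp only [chk, Bool.and_eq_true] at h
    intro r hr
    have := allBelow_spec h.2.2.1 r hr
    simp only [Bool.and_eq_true] at this
    exact boolEq_spec.1 this.2.2
  rho_lt := by
    simp only [chk, Bool.and_eq_true] at h
    intro r hr
    have := allBelow_spec h.2.2.2.1 r hr
    simp only [Bool.and_eq_true] at this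
    exact blt_spec this.1
  rho_rho := by
    simp only [chk, Bool.and_eq_true] at h
    intro r hr
    have := allBelow_spec h.2.2.2.1 r hr
    simp only [Bool.and_eq_true] at this
    exact Nat.eq_of_beq_eq_true this.2.1
  inI_rho := by
    simp only [chk, Bool.and_eq_true] at h
    intro r hr
    have := allBelow_spec h.2.2.2.1 r hr
    simp only [Bool.and_eq_true] at this
    exact boolEq_spec.1 this.2.2
  inv := by
    simp only [chk, Bool.and_eq_true] at h
    intro r hr k hk hI q hq
    have := allBelow_spec (allBelow_spec h.2.2.2.2.1 r hr) k hk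
    rw [hI, cond_true] at this
    have h2 := allF_spec this q hq
    simpa using h2
  det := by
    simp only [chk, Bool.and_eq_true] at h
    intro k hk
    have := allBelow_spec h.2.2.2.2.2 k hk
    simp only [Bool.and_eq_true] at this
    refine ⟨I.detW k, blt_spec this.1, boolEq_spec.1 this.2.1, ?_⟩
    simpa using this.2.2

end ExcIn

namespace ExcD

variable {D : ChevalleyDatum} {T : Tbl} (E : ExcD D T)

/-- The check of `Gen`. -/
noncomputable def chkGen : Bool :=
  allBelow D.nroots fun r => allBelow (D.nroots + D.rank) fun k =>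
    eqSVp E.p (E.W k (T.act r (monoE 1) k)) (E.W' (E.piK k) (T.act (E.tau r) (monoE (E.exp r)) (E.piK k)))

lemma gen_of_chk (h : E.chkGen = true) : E.Gen := fun r hr k hk =>
  allBelow_spec (allBelow_spec h r hr) k hk

end ExcD

end Cfsg.Agent.Lib.Chev
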