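/-
Exceptional graph automorphisms of the Chevalley groups of types `B₂`, `F₄` and `G₂`: the tables, checked by the kernel.
Generated.
-/
import Cfsg.Agent.Lib.ChevAut.Exc6
import Cfsg.Agent.Lib.Chev.T2B2
import Cfsg.Agent.Lib.Chev.T2F4
import Cfsg.Agent.Lib.Chev.T2G2

set_option autoImplicit false
set_option maxRecDepth 100000
set_option maxHeartbeats 0

namespace Cfsg.Agent.Lib.Chev

open Cfsg.Lie
/-- The digit tables of the exceptional graph automorphism of type B2. -/
def excInB2 : ExcIn := ⟨2, 0x166, 0x187105083001, 0x1, 0x201201⟩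

theorem excInB2_chk : excInB2.chk chevB2 digB2.tbl = true := by decide +kernel

/-- The data of the exceptional graph automorphism of type B2. -/
noncomputable def excB2 : ExcD chevB2 digB2.tbl := ExcIn.toD excInB2 chevB2 digB2.tbl excInB2_chk

theorem excB2_gen : excB2.Gen := excB2.gen_of_chk (by decide +kernel)

theorem excB2_val : ∀ i, i < chevB2.rank →
    excB2.tau (chevB2.simple i) = chevB2.simple ([(1, 2), (0, 1)].getD i (0, 1)).1 ∧
    excB2.exp (chevB2.simple i) = ([(1, 2), (0, 1)].getD i (0, 1)).2 ∧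
    excB2.tau (chevB2.neg (chevB2.simple i)) = chevB2.neg (chevB2.simple ([(1, 2), (0, 1)].getD i (0, 1)).1) ∧
    excB2.exp (chevB2.neg (chevB2.simple i)) = ([(1, 2), (0, 1)].getD i (0, 1)).2 := by decide +kernel

theorem excB2_rho : ∀ i, i < chevB2.rank →
    excB2.tau (chevB2.simple i) = chevB2.simple (excB2.rho i) ∧
    excB2.tau (chevB2.neg (chevB2.simple i)) = chevB2.neg (chevB2.simple (excB2.rho i)) ∧
    excB2.exp (chevB2.simple i) = chevB2.graphExp excB2.p i (excB2.rho i) ∧
    excB2.exp (chevB2.neg (chevB2.simple i)) = chevB2.graphExp excB2.p i (excB2.rho i) := by decide +kernel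

theorem excB2_pos : ∀ r, r < chevB2.nroots → (chevB2.nroots / 2 ≤ r ↔ chevB2.nroots / 2 ≤ excB2.tau r) := by decide +kernel

/-- The digit tables of the exceptional graph automorphism of type F4. -/
def excInF4 : ExcIn := ⟨2, 0x311fe381c7f88, 0xb289ef9a476eb6b82a7da6258dca5e6626e13943564464cc29755014f1020522c90081c3, 0x53, 0x4996900000034892936912526000000932d2⟩

theorem excInF4_chk : excInF4.chk chevF4 digF4.tbl = true := by decide +kernel

/-- The data of the exceptional graph automorphism of type F4. -/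
noncomputable def excF4 : ExcD chevF4 digF4.tbl := ExcIn.toD excInF4 chevF4 digF4.tbl excInF4_chk

theorem excF4_gen : excF4.Gen := excF4.gen_of_chk (by decide +kernel)

theorem excF4_val : ∀ i, i < chevF4.rank →
    excF4.tau (chevF4.simple i) = chevF4.simple ([(3, 2), (2, 2), (1, 1), (0, 1)].getD i (0, 1)).1 ∧
    excF4.exp (chevF4.simple i) = ([(3, 2), (2, 2), (1, 1), (0, 1)].getD i (0, 1)).2 ∧
    excF4.tau (chevF4.neg (chevF4.simple i)) = chevF4.neg (chevF4.simple ([(3, 2), (2, 2), (1, 1), (0, 1)].getD i (0, 1)).1) ∧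
    excF4.exp (chevF4.neg (chevF4.simple i)) = ([(3, 2), (2, 2), (1, 1), (0, 1)].getD i (0, 1)).2 := by decide +kernel

theorem excF4_rho : ∀ i, i < chevF4.rank →
    excF4.tau (chevF4.simple i) = chevF4.simple (excF4.rho i) ∧
    excF4.tau (chevF4.neg (chevF4.simple i)) = chevF4.neg (chevF4.simple (excF4.rho i)) ∧
    excF4.exp (chevF4.simple i) = chevF4.graphExp excF4.p i (excF4.rho i) ∧
    excF4.exp (chevF4.neg (chevF4.simple i)) = chevF4.graphExp excF4.p i (excF4.rho i) := by decide +kernel

theorem excF4_pos : ∀ r, r < chevF4.nroots → (chevF4.nroots / 2 ≤ r ↔ chevF4.nroots / 2 ≤ excF4.tau r) := by decide +kernel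

/-- The digit tables of the exceptional graph automorphism of type G2. -/
def excInG2 : ExcIn := ⟨3, 0x139c, 0x2482ca1871050400c2, 0x1, 0x240048009⟩

theorem excInG2_chk : excInG2.chk chevG2 digG2.tbl = true := by decide +kernel

/-- The data of the exceptional graph automorphism of type G2. -/
noncomputable def excG2 : ExcD chevG2 digG2.tbl := ExcIn.toD excInG2 chevG2 digG2.tbl excInG2_chk

theorem excG2_gen : excG2.Gen := excG2.gen_of_chk (by decide +kernel)

theorem excG2_val : ∀ i, i < chevG2.rank →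
    excG2.tau (chevG2.simple i) = chevG2.simple ([(1, 3), (0, 1)].getD i (0, 1)).1 ∧
    excG2.exp (chevG2.simple i) = ([(1, 3), (0, 1)].getD i (0, 1)).2 ∧
    excG2.tau (chevG2.neg (chevG2.simple i)) = chevG2.neg (chevG2.simple ([(1, 3), (0, 1)].getD i (0, 1)).1) ∧
    excG2.exp (chevG2.neg (chevG2.simple i)) = ([(1, 3), (0, 1)].getD i (0, 1)).2 := by decide +kernel

theorem excG2_rho : ∀ i, i < chevG2.rank →
    excG2.tau (chevG2.simple i) = chevG2.simple (excG2.rho i) ∧
    excG2.tau (chevG2.neg (chevG2.simple i)) = chevG2.neg (chevG2.simple (excG2.rho i)) ∧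
    excG2.exp (chevG2.simple i) = chevG2.graphExp excG2.p i (excG2.rho i) ∧
    excG2.exp (chevG2.neg (chevG2.simple i)) = chevG2.graphExp excG2.p i (excG2.rho i) := by decide +kernel

theorem excG2_pos : ∀ r, r < chevG2.nroots → (chevG2.nroots / 2 ≤ r ↔ chevG2.nroots / 2 ≤ excG2.tau r) := by decide +kernel

end Cfsg.Agent.Lib.Chev
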