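/-
Further tables of graph automorphisms of type D4. Generated.
-/
import Cfsg.Agent.Lib.Chev.Graph
import Cfsg.Agent.Lib.Chev.T3D4

set_option autoImplicit false

namespace Cfsg.Agent.Lib.Chev

open Cfsg.Lie

/-- The permutation of the roots for the graph automorphism D4c. -/
def barD4c (r : ℕ) : ℕ := digit 0x17161511100d14130f0e120c0b05090804030a0706020100 8 r

/-- The inverse permutation of the roots. -/
def barID4c (r : ℕ) : ℕ := digit 0x17161511100d14130f0e120c0b05090804030a0706020100 8 r

/-- The permutation of the fundamental roots. -/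
def rhD4c (r : ℕ) : ℕ := digit 0x3012 4 r

/-- The inverse permutation of the fundamental roots. -/
def rhID4c (r : ℕ) : ℕ := digit 0x3012 4 r

/-- The signs. -/
def sgnD4c (r : ℕ) : ℤ := cond (Nat.beq (digit 0x1b00d8 1 r) 1) (-1) 1

theorem chkGrD4c : chkGraph digD4.tbl barD4c barID4c rhD4c rhID4c sgnD4c = true := by decide +kernel

/-- The graph automorphism D4c. -/
noncomputable def grD4c : GraphD chevD4 :=
  graphOfChk good3D4.toGood2 barD4c barID4c rhD4c rhID4c sgnD4c chkGrD4c

theorem grD4c_simple : ∀ i, i < 4 →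
    barD4c (chevD4.simple i) = chevD4.simple ([2, 1, 0, 3].getD i 0) ∧ sgnD4c (chevD4.simple i) = 1 ∧
    barD4c (chevD4.neg (chevD4.simple i)) = chevD4.neg (chevD4.simple ([2, 1, 0, 3].getD i 0)) ∧
    sgnD4c (chevD4.neg (chevD4.simple i)) = 1 := by decide +kernel

/-- The permutation of the roots for the graph automorphism D4d. -/
def barD4d (r : ℕ) : ℕ := digit 0x171614151312110f100e0c0d0a0b09070806050402030100 8 r

/-- The inverse permutation of the roots. -/
def barID4d (r : ℕ) : ℕ := digit 0x171614151312110f100e0c0d0a0b09070806050402030100 8 r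

/-- The permutation of the fundamental roots. -/
def rhD4d (r : ℕ) : ℕ := digit 0x2310 4 r

/-- The inverse permutation of the fundamental roots. -/
def rhID4d (r : ℕ) : ℕ := digit 0x2310 4 r

/-- The signs. -/
def sgnD4d (r : ℕ) : ℤ := cond (Nat.beq (digit 0x0 1 r) 1) (-1) 1

theorem chkGrD4d : chkGraph digD4.tbl barD4d barID4d rhD4d rhID4d sgnD4d = true := by decide +kernel

/-- The graph automorphism D4d. -/
noncomputable def grD4d : GraphD chevD4 :=
  graphOfChk good3D4.toGood2 barD4d barID4d rhD4d rhID4d sgnD4d chkGrD4d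

theorem grD4d_simple : ∀ i, i < 4 →
    barD4d (chevD4.simple i) = chevD4.simple ([0, 1, 3, 2].getD i 0) ∧ sgnD4d (chevD4.simple i) = 1 ∧
    barD4d (chevD4.neg (chevD4.simple i)) = chevD4.neg (chevD4.simple ([0, 1, 3, 2].getD i 0)) ∧
    sgnD4d (chevD4.neg (chevD4.simple i)) = 1 := by decide +kernel

/-- The permutation of the roots for the graph automorphism D4e. -/
def barD4e (r : ℕ) : ℕ := digit 0x171611140f0c1510130e0d12050a090407020b0803060100 8 r

/-- The inverse permutation of the roots. -/
def barID4e (r : ℕ) : ℕ := digit 0x171611140f0c1510130e0d12050a090407020b0803060100 8 r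

/-- The permutation of the fundamental roots. -/
def rhD4e (r : ℕ) : ℕ := digit 0x213 4 r

/-- The inverse permutation of the fundamental roots. -/
def rhID4e (r : ℕ) : ℕ := digit 0x213 4 r

/-- The signs. -/
def sgnD4e (r : ℕ) : ℤ := cond (Nat.beq (digit 0x2a8154 1 r) 1) (-1) 1

theorem chkGrD4e : chkGraph digD4.tbl barD4e barID4e rhD4e rhID4e sgnD4e = true := by decide +kernel

/-- The graph automorphism D4e. -/
noncomputable def grD4e : GraphD chevD4 :=
  graphOfChk good3D4.toGood2 barD4e barID4e rhD4e rhID4e sgnD4e chkGrD4e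

theorem grD4e_simple : ∀ i, i < 4 →
    barD4e (chevD4.simple i) = chevD4.simple ([3, 1, 2, 0].getD i 0) ∧ sgnD4e (chevD4.simple i) = 1 ∧
    barD4e (chevD4.neg (chevD4.simple i)) = chevD4.neg (chevD4.simple ([3, 1, 2, 0].getD i 0)) ∧
    sgnD4e (chevD4.neg (chevD4.simple i)) = 1 := by decide +kernel

end Cfsg.Agent.Lib.Chev
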