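/-
Words in the Weyl group moving the highest root and a further root, not its negative, to positive roots. Generated.
-/
import Cfsg.Agent.Lib.ChevAut.LongPair
import Cfsg.Agent.Lib.Chev.All3

set_option autoImplicit false
set_option maxRecDepth 100000
set_option maxHeartbeats 0

namespace Cfsg.Agent.Lib.Chev

open Cfsg.Lie
/-- The words for type G2. -/
def pairWordsG2 : List (List ℕ) := [[],[1,0],[0,1,0],[0,1],[0],[1],[],[],[],[],[],[]]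

theorem pairWordsG2_spec : ∀ s, s < chevG2.nroots → s ≠ chevG2.neg (chevG2.nroots - 1) →
    (∀ i ∈ pairWordsG2.getD s [], i < chevG2.rank) ∧
    chevG2.nroots / 2 ≤ wperm digG2.tbl (pairWordsG2.getD s []) (chevG2.nroots - 1) ∧
    chevG2.nroots / 2 ≤ wperm digG2.tbl (pairWordsG2.getD s []) s := by decide +kernel

theorem topG2_nil : ∀ s, s < chevG2.nroots → chevG2.nroots / 2 ≤ s → s ≠ chevG2.nroots - 1 →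
    (chevG2.commTerms (chevG2.nroots - 1) s).isEmpty = true := by decide +kernel

/-- The words for type D4. -/
def pairWordsD4 : List (List ℕ) := [[],[3,1,2,0],[2,1,0],[3,1,0],[1,0],[0],[3,1,2],[2,1],[3,1],[1],[2],[3],[],[],[],[],[],[],[],[],[],[],[],[]]

theorem pairWordsD4_spec : ∀ s, s < chevD4.nroots → s ≠ chevD4.neg (chevD4.nroots - 1) →
    (∀ i ∈ pairWordsD4.getD s [], i < chevD4.rank) ∧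
    chevD4.nroots / 2 ≤ wperm digD4.tbl (pairWordsD4.getD s []) (chevD4.nroots - 1) ∧
    chevD4.nroots / 2 ≤ wperm digD4.tbl (pairWordsD4.getD s []) s := by decide +kernel

theorem topD4_nil : ∀ s, s < chevD4.nroots → chevD4.nroots / 2 ≤ s → s ≠ chevD4.nroots - 1 →
    (chevD4.commTerms (chevD4.nroots - 1) s).isEmpty = true := by decide +kernel

/-- The words for type E6. -/
def pairWordsE6 : List (List ℕ) := [[],[5,4,3,2,1,3,4,0,2,3],[5,4,3,2,1,3,4,0,2],[5,4,3,2,1,3,0,2],[4,3,2,1,3,0,2],[5,4,3,2,1,3,4,0],[5,4,3,2,1,3,0],[4,3,2,1,3,0],[5,4,3,2,1,0],[4,3,2,1,0],[3,2,1,0],[5,4,3,2,0],[4,3,2,0],[3,2,0],[2,0],[0],[5,4,3,2,1,3,4],[5,4,3,2,1,3],[4,3,2,1,3],[5,4,3,2,1],[4,3,2,1],[3,2,1],[5,4,3,1],[4,3,1],[3,1],[1],[5,4,3,2],[4,3,2],[3,2],[2],[5,4,3],[4,3],[3],[5,4],[4],[5],[],[],[],[],[],[],[],[],[],[],[],[],[],[],[],[],[],[],[],[],[],[],[],[],[],[],[],[],[],[],[],[],[],[],[],[]]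

theorem pairWordsE6_spec : ∀ s, s < chevE6.nroots → s ≠ chevE6.neg (chevE6.nroots - 1) →
    (∀ i ∈ pairWordsE6.getD s [], i < chevE6.rank) ∧
    chevE6.nroots / 2 ≤ wperm digE6.tbl (pairWordsE6.getD s []) (chevE6.nroots - 1) ∧
    chevE6.nroots / 2 ≤ wperm digE6.tbl (pairWordsE6.getD s []) s := by decide +kernel

theorem topE6_nil : ∀ s, s < chevE6.nroots → chevE6.nroots / 2 ≤ s → s ≠ chevE6.nroots - 1 →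
    (chevE6.commTerms (chevE6.nroots - 1) s).isEmpty = true := by decide +kernel

/-- The words for type E7. -/
def pairWordsE7 : List (List ℕ) := [[],[6,5,4,3,2,1,3,4,5,0,2,3,4,1,3,2],[6,5,4,3,2,1,3,4,5,0,2,3,4,1,3],[6,5,4,3,2,1,3,4,5,0,2,3,4,1],[6,5,4,3,2,1,3,4,5,0,2,3,1],[6,5,4,3,2,1,3,4,0,2,3,1],[5,4,3,2,1,3,4,0,2,3,1],[6,5,4,3,2,1,3,4,5,0,2,3,4],[6,5,4,3,2,1,3,4,5,0,2,3],[6,5,4,3,2,1,3,4,0,2,3],[5,4,3,2,1,3,4,0,2,3],[6,5,4,3,2,1,3,4,5,0,2],[6,5,4,3,2,1,3,4,0,2],[5,4,3,2,1,3,4,0,2],[6,5,4,3,2,1,3,0,2],[5,4,3,2,1,3,0,2],[4,3,2,1,3,0,2],[6,5,4,3,2,1,3,4,5,0],[6,5,4,3,2,1,3,4,0],[5,4,3,2,1,3,4,0],[6,5,4,3,2,1,3,0],[5,4,3,2,1,3,0],[4,3,2,1,3,0],[6,5,4,3,2,1,0],[5,4,3,2,1,0],[4,3,2,1,0],[3,2,1,0],[6,5,4,3,2,0],[5,4,3,2,0],[4,3,2,0],[3,2,0],[2,0],[0],[6,5,4,3,2,1,3,4,5],[6,5,4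,3,2,1,3,4],[5,4,3,2,1,3,4],[6,5,4,3,2,1,3],[5,4,3,2,1,3],[4,3,2,1,3],[6,5,4,3,2,1],[5,4,3,2,1],[4,3,2,1],[3,2,1],[6,5,4,3,1],[5,4,3,1],[4,3,1],[3,1],[1],[6,5,4,3,2],[5,4,3,2],[4,3,2],[3,2],[2],[6,5,4,3],[5,4,3],[4,3],[3],[6,5,4],[5,4],[4],[6,5],[5],[6],[],[],[],[],[],[],[],[],[],[],[],[],[],[],[],[],[],[],[],[],[],[],[],[],[],[],[],[],[],[],[],[],[],[],[],[],[],[],[],[],[],[],[],[],[],[],[],[],[],[],[],[],[],[],[],[],[],[],[],[],[],[],[]]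

theorem pairWordsE7_spec : ∀ s, s < chevE7.nroots → s ≠ chevE7.neg (chevE7.nroots - 1) →
    (∀ i ∈ pairWordsE7.getD s [], i < chevE7.rank) ∧
    chevE7.nroots / 2 ≤ wperm digE7.tbl (pairWordsE7.getD s []) (chevE7.nroots - 1) ∧
    chevE7.nroots / 2 ≤ wperm digE7.tbl (pairWordsE7.getD s []) s := by decide +kernel

theorem topE7_nil : ∀ s, s < chevE7.nroots → chevE7.nroots / 2 ≤ s → s ≠ chevE7.nroots - 1 →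
    (chevE7.commTerms (chevE7.nroots - 1) s).isEmpty = true := by decide +kernel

/-- The words for type E8. -/
def pairWordsE8 : List (List ℕ) := [[],[7,6,5,4,3,2,1,3,4,5,6,0,2,3,4,5,1,3,4,2,3,0,2,1,3,4,5,6],[7,6,5,4,3,2,1,3,4,5,6,0,2,3,4,5,1,3,4,2,3,0,2,1,3,4,5],[7,6,5,4,3,2,1,3,4,5,6,0,2,3,4,5,1,3,4,2,3,0,2,1,3,4],[7,6,5,4,3,2,1,3,4,5,6,0,2,3,4,5,1,3,4,2,3,0,2,1,3],[7,6,5,4,3,2,1,3,4,5,6,0,2,3,4,5,1,3,4,2,3,0,2,1],[7,6,5,4,3,2,1,3,4,5,6,0,2,3,4,5,1,3,4,2,3,1,0],[7,6,5,4,3,2,1,3,4,5,6,0,2,3,4,5,1,3,4,2,3,0,2],[7,6,5,4,3,2,1,3,4,5,6,0,2,3,4,5,1,3,4,2,3,0],[7,6,5,4,3,2,1,3,4,5,6,0,2,3,4,5,1,3,4,2,0],[7,6,5,4,3,2,1,3,4,5,6,0,2,3,4,5,1,3,2,0],[7,6,5,4,3,2,1,3,4,5,6,0,2,3,4,1,3,2,0],[7,6,5,4,3,2,1,3,4,5,0,2,3,4,1,3,2,0],[6,5,4,3,2,1,3,4,5,0,2,3,4,1,3,2,0],[7,6,5,4,3,2,1,3,4,5,6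,0,2,3,4,5,1,3,4,2,3,1],[7,6,5,4,3,2,1,3,4,5,6,0,2,3,4,5,1,3,4,2,3],[7,6,5,4,3,2,1,3,4,5,6,0,2,3,4,5,1,3,4,2],[7,6,5,4,3,2,1,3,4,5,6,0,2,3,4,5,1,3,2],[7,6,5,4,3,2,1,3,4,5,6,0,2,3,4,1,3,2],[7,6,5,4,3,2,1,3,4,5,0,2,3,4,1,3,2],[6,5,4,3,2,1,3,4,5,0,2,3,4,1,3,2],[7,6,5,4,3,2,1,3,4,5,6,0,2,3,4,5,1,3,4],[7,6,5,4,3,2,1,3,4,5,6,0,2,3,4,5,1,3],[7,6,5,4,3,2,1,3,4,5,6,0,2,3,4,1,3],[7,6,5,4,3,2,1,3,4,5,0,2,3,4,1,3],[6,5,4,3,2,1,3,4,5,0,2,3,4,1,3],[7,6,5,4,3,2,1,3,4,5,6,0,2,3,4,5,1],[7,6,5,4,3,2,1,3,4,5,6,0,2,3,4,1],[7,6,5,4,3,2,1,3,4,5,0,2,3,4,1],[6,5,4,3,2,1,3,4,5,0,2,3,4,1],[7,6,5,4,3,2,1,3,4,5,6,0,2,3,1],[7,6,5,4,3,2,1,3,4,5,0,2,3,1],[6,5,4,3,2,1,3,4,5,0,2,3,1],[7,6,5,4,3,2,1,3,4,0,2,3,1],[6,5,4,3,2,1,3,4,0,2,3,1],[5,4,3,2,1,3,4,0,2,3,1],[7,6,5,4,3,2,1,3,4,5,6,0,2,3,4,5],[7,6,5,4,3,2,1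,3,4,5,6,0,2,3,4],[7,6,5,4,3,2,1,3,4,5,0,2,3,4],[6,5,4,3,2,1,3,4,5,0,2,3,4],[7,6,5,4,3,2,1,3,4,5,6,0,2,3],[7,6,5,4,3,2,1,3,4,5,0,2,3],[6,5,4,3,2,1,3,4,5,0,2,3],[7,6,5,4,3,2,1,3,4,0,2,3],[6,5,4,3,2,1,3,4,0,2,3],[5,4,3,2,1,3,4,0,2,3],[7,6,5,4,3,2,1,3,4,5,6,0,2],[7,6,5,4,3,2,1,3,4,5,0,2],[6,5,4,3,2,1,3,4,5,0,2],[7,6,5,4,3,2,1,3,4,0,2],[6,5,4,3,2,1,3,4,0,2],[5,4,3,2,1,3,4,0,2],[7,6,5,4,3,2,1,3,0,2],[6,5,4,3,2,1,3,0,2],[5,4,3,2,1,3,0,2],[4,3,2,1,3,0,2],[7,6,5,4,3,2,1,3,4,5,6,0],[7,6,5,4,3,2,1,3,4,5,0],[6,5,4,3,2,1,3,4,5,0],[7,6,5,4,3,2,1,3,4,0],[6,5,4,3,2,1,3,4,0],[5,4,3,2,1,3,4,0],[7,6,5,4,3,2,1,3,0],[6,5,4,3,2,1,3,0],[5,4,3,2,1,3,0],[4,3,2,1,3,0],[7,6,5,4,3,2,1,0],[6,5,4,3,2,1,0],[5,4,3,2,1,0],[4,3,2,1,0],[3,2,1,0],[7,6,5,4,3,2,0],[6,5,4,3,2,0],[5,4,3,2,0],[4,3,2,0],[3,2,0],[2,0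],[0],[7,6,5,4,3,2,1,3,4,5,6],[7,6,5,4,3,2,1,3,4,5],[6,5,4,3,2,1,3,4,5],[7,6,5,4,3,2,1,3,4],[6,5,4,3,2,1,3,4],[5,4,3,2,1,3,4],[7,6,5,4,3,2,1,3],[6,5,4,3,2,1,3],[5,4,3,2,1,3],[4,3,2,1,3],[7,6,5,4,3,2,1],[6,5,4,3,2,1],[5,4,3,2,1],[4,3,2,1],[3,2,1],[7,6,5,4,3,1],[6,5,4,3,1],[5,4,3,1],[4,3,1],[3,1],[1],[7,6,5,4,3,2],[6,5,4,3,2],[5,4,3,2],[4,3,2],[3,2],[2],[7,6,5,4,3],[6,5,4,3],[5,4,3],[4,3],[3],[7,6,5,4],[6,5,4],[5,4],[4],[7,6,5],[6,5],[5],[7,6],[6],[7],[],[],[],[],[],[],[],[],[],[],[],[],[],[],[],[],[],[],[],[],[],[],[],[],[],[],[],[],[],[],[],[],[],[],[],[],[],[],[],[],[],[],[],[],[],[],[],[],[],[],[],[],[],[],[],[],[],[],[],[],[],[],[],[],[],[],[],[],[],[],[],[],[],[],[],[],[],[],[],[],[],[],[],[],[],[],[],[],[],[],[],[],[],[],[],[],[],[],[],[],[],[],[],[],[],[],[],[],[],[],[],[],[],[],[],[],[],[],[],[]]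

theorem pairWordsE8_spec : ∀ s, s < chevE8.nroots → s ≠ chevE8.neg (chevE8.nroots - 1) →
    (∀ i ∈ pairWordsE8.getD s [], i < chevE8.rank) ∧
    chevE8.nroots / 2 ≤ wperm digE8.tbl (pairWordsE8.getD s []) (chevE8.nroots - 1) ∧
    chevE8.nroots / 2 ≤ wperm digE8.tbl (pairWordsE8.getD s []) s := by decide +kernel

theorem topE8_nil : ∀ s, s < chevE8.nroots → chevE8.nroots / 2 ≤ s → s ≠ chevE8.nroots - 1 →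
    (chevE8.commTerms (chevE8.nroots - 1) s).isEmpty = true := by decide +kernel

/-- The words for type B2. -/
def pairWordsB2 : List (List ℕ) := [[],[0,1],[0],[1],[],[],[],[]]

theorem pairWordsB2_spec : ∀ s, s < chevB2.nroots → s ≠ chevB2.neg (chevB2.nroots - 1) →
    (∀ i ∈ pairWordsB2.getD s [], i < chevB2.rank) ∧
    chevB2.nroots / 2 ≤ wperm digB2.tbl (pairWordsB2.getD s []) (chevB2.nroots - 1) ∧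
    chevB2.nroots / 2 ≤ wperm digB2.tbl (pairWordsB2.getD s []) s := by decide +kernel

theorem topB2_nil : ∀ s, s < chevB2.nroots → chevB2.nroots / 2 ≤ s → s ≠ chevB2.nroots - 1 →
    (chevB2.commTerms (chevB2.nroots - 1) s).isEmpty = true := by decide +kernel

/-- The words for type F4. -/
def pairWordsF4 : List (List ℕ) := [[],[3,2,1,2,0,1,2],[3,2,1,2,0,1],[1,2,3,0,1,2,1,0],[3,2,1,2,0],[3,2,1,0],[2,1,0],[1,2,3,0,1,2,1],[1,2,3,0,1,2],[1,2,3,0,1],[1,2,0,1],[1,2,3,0],[1,2,0],[1,0],[0],[3,2,1,2],[3,2,1],[2,1],[1,2,3],[1,2],[1],[3,2],[2],[3],[],[],[],[],[],[],[],[],[],[],[],[],[],[],[],[],[],[],[],[],[],[],[],[]]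

theorem pairWordsF4_spec : ∀ s, s < chevF4.nroots → s ≠ chevF4.neg (chevF4.nroots - 1) →
    (∀ i ∈ pairWordsF4.getD s [], i < chevF4.rank) ∧
    chevF4.nroots / 2 ≤ wperm digF4.tbl (pairWordsF4.getD s []) (chevF4.nroots - 1) ∧
    chevF4.nroots / 2 ≤ wperm digF4.tbl (pairWordsF4.getD s []) s := by decide +kernel

theorem topF4_nil : ∀ s, s < chevF4.nroots → chevF4.nroots / 2 ≤ s → s ≠ chevF4.nroots - 1 →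
    (chevF4.commTerms (chevF4.nroots - 1) s).isEmpty = true := by decide +kernel

end Cfsg.Agent.Lib.Chev
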