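/-
Words in the Weyl group moving base roots to all the roots. Generated.
-/
import Cfsg.Agent.Lib.ChevAut.RootGen
import Cfsg.Agent.Lib.Chev.All3

set_option autoImplicit false
set_option maxRecDepth 100000
set_option maxHeartbeats 0

namespace Cfsg.Agent.Lib.Chev

open Cfsg.Lie
/-- The words for type G2. -/
def genWordsG2 : List (List ℕ) := [[],[1],[],[0],[1,0],[0,1],[1,0,1],[0,1,0],[1,0,1,0],[0,1,0,1,0],[0,1,0,1],[1,0,1,0,1]]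

/-- The base root of a root of type G2. -/
def genBaseG2 (r : ℕ) : ℕ := cond (Nat.beq (digit 0xc63 1 r) 1) 0 2

theorem genWordsG2_spec : ∀ r, r < chevG2.nroots →
    (∀ i ∈ genWordsG2.getD r [], i < chevG2.rank) ∧ genBaseG2 r < chevG2.nroots ∧
    wperm digG2.tbl (genWordsG2.getD r []) (genBaseG2 r) = r := by decide +kernel

theorem genBaseG2_short : ∀ i, i < chevG2.rank → chevG2.isLong (chevG2.simple i) = false →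
    genBaseG2 (chevG2.simple i) = 2 := by decide +kernel

theorem genBaseG2_long : ∀ i, i < chevG2.rank → chevG2.isLong (chevG2.simple i) = true →
    genBaseG2 (chevG2.simple i) = 0 := by decide +kernel

theorem genBaseG2_val : ∀ r, r < chevG2.nroots → genBaseG2 r = 2 ∨ genBaseG2 r = 0 := by decide +kernel

theorem genLtG2 : 2 < chevG2.nroots ∧ 0 < chevG2.nroots := by decide +kernel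

theorem genCommG2 : chevG2.commTerms 2 3 = [(0, (3), 1, 1)] ∧ genBaseG2 2 = 2 ∧ genBaseG2 3 = 2 ∧
    2 < chevG2.nroots ∧ 3 < chevG2.nroots ∧ 3 ≠ 2 ∧ 3 ≠ chevG2.neg 2 := by decide +kernel

/-- The words for type B2. -/
def genWordsB2 : List (List ℕ) := [[],[],[1],[0],[1,0],[0,1],[1,0,1],[0,1,0]]

/-- The base root of a root of type B2. -/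
def genBaseB2 (r : ℕ) : ℕ := cond (Nat.beq (digit 0x99 1 r) 1) 0 1

theorem genWordsB2_spec : ∀ r, r < chevB2.nroots →
    (∀ i ∈ genWordsB2.getD r [], i < chevB2.rank) ∧ genBaseB2 r < chevB2.nroots ∧
    wperm digB2.tbl (genWordsB2.getD r []) (genBaseB2 r) = r := by decide +kernel

theorem genBaseB2_short : ∀ i, i < chevB2.rank → chevB2.isLong (chevB2.simple i) = false →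
    genBaseB2 (chevB2.simple i) = 1 := by decide +kernel

theorem genBaseB2_long : ∀ i, i < chevB2.rank → chevB2.isLong (chevB2.simple i) = true →
    genBaseB2 (chevB2.simple i) = 0 := by decide +kernel

theorem genBaseB2_val : ∀ r, r < chevB2.nroots → genBaseB2 r = 1 ∨ genBaseB2 r = 0 := by decide +kernel

theorem genLtB2 : 1 < chevB2.nroots ∧ 0 < chevB2.nroots := by decide +kernel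

theorem genCommB2 : chevB2.commTerms 1 2 = [(0, (2), 1, 1)] ∧ genBaseB2 1 = 1 ∧ genBaseB2 2 = 1 ∧
    1 < chevB2.nroots ∧ 2 < chevB2.nroots ∧ 2 ≠ 1 ∧ 2 ≠ chevB2.neg 1 := by decide +kernel

/-- The words for type D4. -/
def genWordsD4 : List (List ℕ) := [[],[1],[3,1],[2,1],[3,2,1],[1,3,2,1],[0,1],[3,0,1],[2,0,1],[3,2,0,1],[1,3,0,1],[1,2,0,1],[3,1,2,0,1],[2,1,3,0,1],[1,3,2,0,1],[1,3,1,2,0,1],[2,1,3,2,0,1],[2,1,3,1,2,0,1],[0,1,3,2,1],[0,1,3,2,0,1],[0,1,3,1,2,0,1],[2,0,1,3,2,0,1],[2,0,1,3,1,2,0,1],[1,2,0,1,3,1,2,0,1]]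

/-- The base root of a root of type D4. -/
def genBaseD4 (r : ℕ) : ℕ := cond (Nat.beq (digit 0x0 1 r) 1) 0 0

theorem genWordsD4_spec : ∀ r, r < chevD4.nroots →
    (∀ i ∈ genWordsD4.getD r [], i < chevD4.rank) ∧ genBaseD4 r < chevD4.nroots ∧
    wperm digD4.tbl (genWordsD4.getD r []) (genBaseD4 r) = r := by decide +kernel

theorem genBaseD4_short : ∀ i, i < chevD4.rank → chevD4.isLong (chevD4.simple i) = false →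
    genBaseD4 (chevD4.simple i) = 0 := by decide +kernel

theorem genBaseD4_long : ∀ i, i < chevD4.rank → chevD4.isLong (chevD4.simple i) = true →
    genBaseD4 (chevD4.simple i) = 0 := by decide +kernel

theorem genBaseD4_val : ∀ r, r < chevD4.nroots → genBaseD4 r = 0 ∨ genBaseD4 r = 0 := by decide +kernel

theorem genLtD4 : 0 < chevD4.nroots ∧ 0 < chevD4.nroots := by decide +kernel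
/-- The words for type F4. -/
def genWordsF4 : List (List ℕ) := [[],[3],[2,3],[],[1,2,3],[2,1,2,3],[3,2,1,2,3],[0],[1,0],[2,1,0],[3,2,1,0],[1,2,1,0],[3,1,2,1,0],[2,3,1,2,1,0],[1,2,3,1,2,1,0],[0,1,2,3],[2,0,1,2,3],[3,2,0,1,2,3],[0,1,2,1,0],[3,0,1,2,1,0],[2,3,0,1,2,1,0],[1,2,0,1,2,3],[3,1,2,0,1,2,3],[2,1,2,0,1,2,3],[3,2,1,2,0,1,2,3],[2,3,1,2,0,1,2,3],[2,3,2,1,2,0,1,2,3],[1,2,3,0,1,2,1,0],[2,1,2,3,0,1,2,1,0],[3,2,1,2,3,0,1,2,1,0],[1,2,3,1,2,0,1,2,3],[1,2,3,2,1,2,0,1,2,3],[2,1,2,3,2,1,2,0,1,2,3],[0,1,2,3,1,2,1,0],[0,1,2,3,0,1,2,1,0],[2,0,1,2,3,0,1,2,1,0],[3,2,0,1,2,3,0,1,2,1,0],[1,2,0,1,2,3,0,1,2,1,0],[3,1,2,0,1,2,3,0,1,2,1,0],[2,3,1,2,0,1,2,3,0,1,2,1,0],[1,2,3,1,2,0,1,2,3,0,1,2,1,0],[0,1,2,3,1,2,0,1,2,3],[0,1,2,3,2,1,2,0,1,2,3],[2,0,1,2,3,2,1,2,0,1,2,3],[0,1,2,3,1,2,0,1,2,3,0,1,2,1,0],[1,2,0,1,2,3,2,1,2,0,1,2,3],[2,1,2,0,1,2,3,2,1,2,0,1,2,3],[3,2,1,2,0,1,2,3,2,1,2,0,1,2,3]]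

/-- The base root of a root of type F4. -/
def genBaseF4 (r : ℕ) : ℕ := cond (Nat.beq (digit 0xee01c7e38077 1 r) 1) 0 3

theorem genWordsF4_spec : ∀ r, r < chevF4.nroots →
    (∀ i ∈ genWordsF4.getD r [], i < chevF4.rank) ∧ genBaseF4 r < chevF4.nroots ∧
    wperm digF4.tbl (genWordsF4.getD r []) (genBaseF4 r) = r := by decide +kernel

theorem genBaseF4_short : ∀ i, i < chevF4.rank → chevF4.isLong (chevF4.simple i) = false →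
    genBaseF4 (chevF4.simple i) = 3 := by decide +kernel

theorem genBaseF4_long : ∀ i, i < chevF4.rank → chevF4.isLong (chevF4.simple i) = true →
    genBaseF4 (chevF4.simple i) = 0 := by decide +kernel

theorem genBaseF4_val : ∀ r, r < chevF4.nroots → genBaseF4 r = 3 ∨ genBaseF4 r = 0 := by decide +kernel

theorem genLtF4 : 3 < chevF4.nroots ∧ 0 < chevF4.nroots := by decide +kernel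

theorem genCommF4 : chevF4.commTerms 3 18 = [(0, (2), 1, 1)] ∧ genBaseF4 3 = 3 ∧ genBaseF4 18 = 3 ∧
    3 < chevF4.nroots ∧ 18 < chevF4.nroots ∧ 18 ≠ 3 ∧ 18 ≠ chevF4.neg 3 := by decide +kernel

/-- The words for type E6. -/
def genWordsE6 : List (List ℕ) := [[],[1],[3,1],[4,3,1],[5,4,3,1],[2,3,1],[4,2,3,1],[5,4,2,3,1],[3,4,2,3,1],[5,3,4,2,3,1],[4,5,3,4,2,3,1],[1,3,4,2,3,1],[5,1,3,4,2,3,1],[4,5,1,3,4,2,3,1],[3,4,5,1,3,4,2,3,1],[2,3,4,5,1,3,4,2,3,1],[0,2,3,1],[4,0,2,3,1],[5,4,0,2,3,1],[3,4,0,2,3,1],[5,3,4,0,2,3,1],[4,5,3,4,0,2,3,1],[2,3,4,0,2,3,1],[5,2,3,4,0,2,3,1],[4,5,2,3,4,0,2,3,1],[3,4,5,2,3,4,0,2,3,1],[1,3,4,0,2,3,1],[5,1,3,4,0,2,3,1],[4,5,1,3,4,0,2,3,1],[3,4,5,1,3,4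,0,2,3,1],[2,1,3,4,0,2,3,1],[5,2,1,3,4,0,2,3,1],[4,5,2,1,3,4,0,2,3,1],[3,2,1,3,4,0,2,3,1],[5,3,2,1,3,4,0,2,3,1],[4,3,2,1,3,4,0,2,3,1],[5,4,3,2,1,3,4,0,2,3,1],[4,5,3,2,1,3,4,0,2,3,1],[4,5,4,3,2,1,3,4,0,2,3,1],[3,4,5,2,1,3,4,0,2,3,1],[3,4,5,3,2,1,3,4,0,2,3,1],[3,4,5,4,3,2,1,3,4,0,2,3,1],[2,3,4,5,1,3,4,0,2,3,1],[2,3,4,5,2,1,3,4,0,2,3,1],[2,3,4,5,3,2,1,3,4,0,2,3,1],[2,3,4,5,4,3,2,1,3,4,0,2,3,1],[1,3,4,5,2,3,4,0,2,3,1],[1,3,4,5,2,1,3,4,0,2,3,1],[1,3,4,5,3,2,1,3,4,0,2,3,1],[1,3,4,5,4,3,2,1,3,4,0,2,3,1],[2,1,3,4,5,2,1,3,4,0,2,3,1],[2,1,3,4,5,3,2,1,3,4,0,2,3,1],[2,1,3,4,5,4,3,2,1,3,4,0,2,3,1],[3,2,1,3,4,5,3,2,1,3,4,0,2,3,1],[3,2,1,3,4,5,4,3,2,1,3,4,0,2,3,1],[4,3,2,1,3,4,5,4,3,2,1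,3,4,0,2,3,1],[0,2,3,4,5,1,3,4,2,3,1],[0,2,3,4,5,1,3,4,0,2,3,1],[0,2,3,4,5,2,1,3,4,0,2,3,1],[0,2,3,4,5,3,2,1,3,4,0,2,3,1],[0,2,3,4,5,4,3,2,1,3,4,0,2,3,1],[0,2,1,3,4,5,2,1,3,4,0,2,3,1],[0,2,1,3,4,5,3,2,1,3,4,0,2,3,1],[0,2,1,3,4,5,4,3,2,1,3,4,0,2,3,1],[3,0,2,1,3,4,5,3,2,1,3,4,0,2,3,1],[3,0,2,1,3,4,5,4,3,2,1,3,4,0,2,3,1],[4,3,0,2,1,3,4,5,4,3,2,1,3,4,0,2,3,1],[2,3,0,2,1,3,4,5,3,2,1,3,4,0,2,3,1],[2,3,0,2,1,3,4,5,4,3,2,1,3,4,0,2,3,1],[4,2,3,0,2,1,3,4,5,4,3,2,1,3,4,0,2,3,1],[3,4,2,3,0,2,1,3,4,5,4,3,2,1,3,4,0,2,3,1],[1,3,4,2,3,0,2,1,3,4,5,4,3,2,1,3,4,0,2,3,1]]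

/-- The base root of a root of type E6. -/
def genBaseE6 (r : ℕ) : ℕ := cond (Nat.beq (digit 0x0 1 r) 1) 0 0

theorem genWordsE6_spec : ∀ r, r < chevE6.nroots →
    (∀ i ∈ genWordsE6.getD r [], i < chevE6.rank) ∧ genBaseE6 r < chevE6.nroots ∧
    wperm digE6.tbl (genWordsE6.getD r []) (genBaseE6 r) = r := by decide +kernel

theorem genBaseE6_short : ∀ i, i < chevE6.rank → chevE6.isLong (chevE6.simple i) = false →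
    genBaseE6 (chevE6.simple i) = 0 := by decide +kernel

theorem genBaseE6_long : ∀ i, i < chevE6.rank → chevE6.isLong (chevE6.simple i) = true →
    genBaseE6 (chevE6.simple i) = 0 := by decide +kernel

theorem genBaseE6_val : ∀ r, r < chevE6.nroots → genBaseE6 r = 0 ∨ genBaseE6 r = 0 := by decide +kernel

theorem genLtE6 : 0 < chevE6.nroots ∧ 0 < chevE6.nroots := by decide +kernel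
/-- The words for type E7. -/
def genWordsE7 : List (List ℕ) := [[],[0],[2,0],[3,2,0],[4,3,2,0],[5,4,3,2,0],[6,5,4,3,2,0],[1,3,2,0],[4,1,3,2,0],[5,4,1,3,2,0],[6,5,4,1,3,2,0],[3,4,1,3,2,0],[5,3,4,1,3,2,0],[6,5,3,4,1,3,2,0],[4,5,3,4,1,3,2,0],[6,4,5,3,4,1,3,2,0],[5,6,4,5,3,4,1,3,2,0],[2,3,4,1,3,2,0],[5,2,3,4,1,3,2,0],[6,5,2,3,4,1,3,2,0],[4,5,2,3,4,1,3,2,0],[6,4,5,2,3,4,1,3,2,0],[5,6,4,5,2,3,4,1,3,2,0],[3,4,5,2,3,4,1,3,2,0],[6,3,4,5,2,3,4,1,3,2,0],[5,6,3,4,5,2,3,4,1,3,2,0],[4,5,6,3,4,5,2,3,4,1,3,2,0],[1,3,4,5,2,3,4,1,3,2,0],[6,1,3,4,5,2,3,4,1,3,2,0],[5,6,1,3,4,5,2,3,4,1,3,2,0],[4,5,6,1,3,4,5,2,3,4,1,3,2,0],[3,4,5,6,1,3,4,5,2,3,4,1,3,2,0],[2,3,4,5,6,1,3,4,5,2,3,4,1,3,2,0],[0,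2,3,4,1,3,2,0],[5,0,2,3,4,1,3,2,0],[6,5,0,2,3,4,1,3,2,0],[4,5,0,2,3,4,1,3,2,0],[6,4,5,0,2,3,4,1,3,2,0],[5,6,4,5,0,2,3,4,1,3,2,0],[3,4,5,0,2,3,4,1,3,2,0],[6,3,4,5,0,2,3,4,1,3,2,0],[5,6,3,4,5,0,2,3,4,1,3,2,0],[4,5,6,3,4,5,0,2,3,4,1,3,2,0],[2,3,4,5,0,2,3,4,1,3,2,0],[6,2,3,4,5,0,2,3,4,1,3,2,0],[5,6,2,3,4,5,0,2,3,4,1,3,2,0],[4,5,6,2,3,4,5,0,2,3,4,1,3,2,0],[3,4,5,6,2,3,4,5,0,2,3,4,1,3,2,0],[1,3,4,5,0,2,3,4,1,3,2,0],[6,1,3,4,5,0,2,3,4,1,3,2,0],[5,6,1,3,4,5,0,2,3,4,1,3,2,0],[4,5,6,1,3,4,5,0,2,3,4,1,3,2,0],[3,4,5,6,1,3,4,5,0,2,3,4,1,3,2,0],[2,1,3,4,5,0,2,3,4,1,3,2,0],[6,2,1,3,4,5,0,2,3,4,1,3,2,0],[5,6,2,1,3,4,5,0,2,3,4,1,3,2,0],[4,5,6,2,1,3,4,5,0,2,3,4,1,3,2,0],[3,2,1,3,4,5,0,2,3,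4,1,3,2,0],[6,3,2,1,3,4,5,0,2,3,4,1,3,2,0],[5,6,3,2,1,3,4,5,0,2,3,4,1,3,2,0],[4,3,2,1,3,4,5,0,2,3,4,1,3,2,0],[6,4,3,2,1,3,4,5,0,2,3,4,1,3,2,0],[5,4,3,2,1,3,4,5,0,2,3,4,1,3,2,0],[6,5,4,3,2,1,3,4,5,0,2,3,4,1,3,2,0],[5,6,4,3,2,1,3,4,5,0,2,3,4,1,3,2,0],[5,6,5,4,3,2,1,3,4,5,0,2,3,4,1,3,2,0],[4,5,6,3,2,1,3,4,5,0,2,3,4,1,3,2,0],[4,5,6,4,3,2,1,3,4,5,0,2,3,4,1,3,2,0],[4,5,6,5,4,3,2,1,3,4,5,0,2,3,4,1,3,2,0],[3,4,5,6,2,1,3,4,5,0,2,3,4,1,3,2,0],[3,4,5,6,3,2,1,3,4,5,0,2,3,4,1,3,2,0],[3,4,5,6,4,3,2,1,3,4,5,0,2,3,4,1,3,2,0],[3,4,5,6,5,4,3,2,1,3,4,5,0,2,3,4,1,3,2,0],[2,3,4,5,6,1,3,4,5,0,2,3,4,1,3,2,0],[2,3,4,5,6,2,1,3,4,5,0,2,3,4,1,3,2,0],[2,3,4,5,6,3,2,1,3,4,5,0,2,3,4,1,3,2,0],[2,3,4,5,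6,4,3,2,1,3,4,5,0,2,3,4,1,3,2,0],[2,3,4,5,6,5,4,3,2,1,3,4,5,0,2,3,4,1,3,2,0],[1,3,4,5,6,2,3,4,5,0,2,3,4,1,3,2,0],[1,3,4,5,6,2,1,3,4,5,0,2,3,4,1,3,2,0],[1,3,4,5,6,3,2,1,3,4,5,0,2,3,4,1,3,2,0],[1,3,4,5,6,4,3,2,1,3,4,5,0,2,3,4,1,3,2,0],[1,3,4,5,6,5,4,3,2,1,3,4,5,0,2,3,4,1,3,2,0],[2,1,3,4,5,6,2,1,3,4,5,0,2,3,4,1,3,2,0],[2,1,3,4,5,6,3,2,1,3,4,5,0,2,3,4,1,3,2,0],[2,1,3,4,5,6,4,3,2,1,3,4,5,0,2,3,4,1,3,2,0],[2,1,3,4,5,6,5,4,3,2,1,3,4,5,0,2,3,4,1,3,2,0],[3,2,1,3,4,5,6,3,2,1,3,4,5,0,2,3,4,1,3,2,0],[3,2,1,3,4,5,6,4,3,2,1,3,4,5,0,2,3,4,1,3,2,0],[3,2,1,3,4,5,6,5,4,3,2,1,3,4,5,0,2,3,4,1,3,2,0],[4,3,2,1,3,4,5,6,4,3,2,1,3,4,5,0,2,3,4,1,3,2,0],[4,3,2,1,3,4,5,6,5,4,3,2,1,3,4,5,0,2,3,4,1,3,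2,0],[5,4,3,2,1,3,4,5,6,5,4,3,2,1,3,4,5,0,2,3,4,1,3,2,0],[0,2,3,4,5,6,1,3,4,5,2,3,4,1,3,2,0],[0,2,3,4,5,6,1,3,4,5,0,2,3,4,1,3,2,0],[0,2,3,4,5,6,2,1,3,4,5,0,2,3,4,1,3,2,0],[0,2,3,4,5,6,3,2,1,3,4,5,0,2,3,4,1,3,2,0],[0,2,3,4,5,6,4,3,2,1,3,4,5,0,2,3,4,1,3,2,0],[0,2,3,4,5,6,5,4,3,2,1,3,4,5,0,2,3,4,1,3,2,0],[0,2,1,3,4,5,6,2,1,3,4,5,0,2,3,4,1,3,2,0],[0,2,1,3,4,5,6,3,2,1,3,4,5,0,2,3,4,1,3,2,0],[0,2,1,3,4,5,6,4,3,2,1,3,4,5,0,2,3,4,1,3,2,0],[0,2,1,3,4,5,6,5,4,3,2,1,3,4,5,0,2,3,4,1,3,2,0],[3,0,2,1,3,4,5,6,3,2,1,3,4,5,0,2,3,4,1,3,2,0],[3,0,2,1,3,4,5,6,4,3,2,1,3,4,5,0,2,3,4,1,3,2,0],[3,0,2,1,3,4,5,6,5,4,3,2,1,3,4,5,0,2,3,4,1,3,2,0],[4,3,0,2,1,3,4,5,6,4,3,2,1,3,4,5,0,2,3,4,1,3,2,0],[4,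3,0,2,1,3,4,5,6,5,4,3,2,1,3,4,5,0,2,3,4,1,3,2,0],[5,4,3,0,2,1,3,4,5,6,5,4,3,2,1,3,4,5,0,2,3,4,1,3,2,0],[2,3,0,2,1,3,4,5,6,3,2,1,3,4,5,0,2,3,4,1,3,2,0],[2,3,0,2,1,3,4,5,6,4,3,2,1,3,4,5,0,2,3,4,1,3,2,0],[2,3,0,2,1,3,4,5,6,5,4,3,2,1,3,4,5,0,2,3,4,1,3,2,0],[4,2,3,0,2,1,3,4,5,6,4,3,2,1,3,4,5,0,2,3,4,1,3,2,0],[4,2,3,0,2,1,3,4,5,6,5,4,3,2,1,3,4,5,0,2,3,4,1,3,2,0],[5,4,2,3,0,2,1,3,4,5,6,5,4,3,2,1,3,4,5,0,2,3,4,1,3,2,0],[3,4,2,3,0,2,1,3,4,5,6,4,3,2,1,3,4,5,0,2,3,4,1,3,2,0],[3,4,2,3,0,2,1,3,4,5,6,5,4,3,2,1,3,4,5,0,2,3,4,1,3,2,0],[5,3,4,2,3,0,2,1,3,4,5,6,5,4,3,2,1,3,4,5,0,2,3,4,1,3,2,0],[4,5,3,4,2,3,0,2,1,3,4,5,6,5,4,3,2,1,3,4,5,0,2,3,4,1,3,2,0],[1,3,4,2,3,0,2,1,3,4,5,6,4,3,2,1,3,4,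5,0,2,3,4,1,3,2,0],[1,3,4,2,3,0,2,1,3,4,5,6,5,4,3,2,1,3,4,5,0,2,3,4,1,3,2,0],[5,1,3,4,2,3,0,2,1,3,4,5,6,5,4,3,2,1,3,4,5,0,2,3,4,1,3,2,0],[4,5,1,3,4,2,3,0,2,1,3,4,5,6,5,4,3,2,1,3,4,5,0,2,3,4,1,3,2,0],[3,4,5,1,3,4,2,3,0,2,1,3,4,5,6,5,4,3,2,1,3,4,5,0,2,3,4,1,3,2,0],[2,3,4,5,1,3,4,2,3,0,2,1,3,4,5,6,5,4,3,2,1,3,4,5,0,2,3,4,1,3,2,0],[0,2,3,4,5,1,3,4,2,3,0,2,1,3,4,5,6,5,4,3,2,1,3,4,5,0,2,3,4,1,3,2,0]]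

/-- The base root of a root of type E7. -/
def genBaseE7 (r : ℕ) : ℕ := cond (Nat.beq (digit 0x0 1 r) 1) 0 0

theorem genWordsE7_spec : ∀ r, r < chevE7.nroots →
    (∀ i ∈ genWordsE7.getD r [], i < chevE7.rank) ∧ genBaseE7 r < chevE7.nroots ∧
    wperm digE7.tbl (genWordsE7.getD r []) (genBaseE7 r) = r := by decide +kernel

theorem genBaseE7_short : ∀ i, i < chevE7.rank → chevE7.isLong (chevE7.simple i) = false →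
    genBaseE7 (chevE7.simple i) = 0 := by decide +kernel

theorem genBaseE7_long : ∀ i, i < chevE7.rank → chevE7.isLong (chevE7.simple i) = true →
    genBaseE7 (chevE7.simple i) = 0 := by decide +kernel

theorem genBaseE7_val : ∀ r, r < chevE7.nroots → genBaseE7 r = 0 ∨ genBaseE7 r = 0 := by decide +kernel

theorem genLtE7 : 0 < chevE7.nroots ∧ 0 < chevE7.nroots := by decide +kernel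
/-- The words for type E8. -/
def genWordsE8 : List (List ℕ) := [[],[7],[6,7],[5,6,7],[4,5,6,7],[3,4,5,6,7],[2,3,4,5,6,7],[1,3,4,5,6,7],[2,1,3,4,5,6,7],[3,2,1,3,4,5,6,7],[4,3,2,1,3,4,5,6,7],[5,4,3,2,1,3,4,5,6,7],[6,5,4,3,2,1,3,4,5,6,7],[7,6,5,4,3,2,1,3,4,5,6,7],[0,2,3,4,5,6,7],[0,2,1,3,4,5,6,7],[3,0,2,1,3,4,5,6,7],[4,3,0,2,1,3,4,5,6,7],[5,4,3,0,2,1,3,4,5,6,7],[6,5,4,3,0,2,1,3,4,5,6,7],[7,6,5,4,3,0,2,1,3,4,5,6,7],[2,3,0,2,1,3,4,5,6,7],[4,2,3,0,2,1,3,4,5,6,7],[5,4,2,3,0,2,1,3,4,5,6,7],[6,5,4,2,3,0,2,1,3,4,5,6,7],[7,6,5,4,2,3,0,2,1,3,4,5,6,7],[3,4,2,3,0,2,1,3,4,5,6,7],[5,3,4,2,3,0,2,1,3,4,5,6,7],[6,5,3,4,2,3,0,2,1,3,4,5,6,7],[7,6,5,3,4,2,3,0,2,1,3,4,5,6,7],[4,5,3,4,2,3,0,2,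1,3,4,5,6,7],[6,4,5,3,4,2,3,0,2,1,3,4,5,6,7],[7,6,4,5,3,4,2,3,0,2,1,3,4,5,6,7],[5,6,4,5,3,4,2,3,0,2,1,3,4,5,6,7],[7,5,6,4,5,3,4,2,3,0,2,1,3,4,5,6,7],[6,7,5,6,4,5,3,4,2,3,0,2,1,3,4,5,6,7],[1,3,4,2,3,0,2,1,3,4,5,6,7],[5,1,3,4,2,3,0,2,1,3,4,5,6,7],[6,5,1,3,4,2,3,0,2,1,3,4,5,6,7],[7,6,5,1,3,4,2,3,0,2,1,3,4,5,6,7],[4,5,1,3,4,2,3,0,2,1,3,4,5,6,7],[6,4,5,1,3,4,2,3,0,2,1,3,4,5,6,7],[7,6,4,5,1,3,4,2,3,0,2,1,3,4,5,6,7],[5,6,4,5,1,3,4,2,3,0,2,1,3,4,5,6,7],[7,5,6,4,5,1,3,4,2,3,0,2,1,3,4,5,6,7],[6,7,5,6,4,5,1,3,4,2,3,0,2,1,3,4,5,6,7],[3,4,5,1,3,4,2,3,0,2,1,3,4,5,6,7],[6,3,4,5,1,3,4,2,3,0,2,1,3,4,5,6,7],[7,6,3,4,5,1,3,4,2,3,0,2,1,3,4,5,6,7],[5,6,3,4,5,1,3,4,2,3,0,2,1,3,4,5,6,7],[7,5,6,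3,4,5,1,3,4,2,3,0,2,1,3,4,5,6,7],[6,7,5,6,3,4,5,1,3,4,2,3,0,2,1,3,4,5,6,7],[4,5,6,3,4,5,1,3,4,2,3,0,2,1,3,4,5,6,7],[7,4,5,6,3,4,5,1,3,4,2,3,0,2,1,3,4,5,6,7],[6,7,4,5,6,3,4,5,1,3,4,2,3,0,2,1,3,4,5,6,7],[5,6,7,4,5,6,3,4,5,1,3,4,2,3,0,2,1,3,4,5,6,7],[2,3,4,5,1,3,4,2,3,0,2,1,3,4,5,6,7],[6,2,3,4,5,1,3,4,2,3,0,2,1,3,4,5,6,7],[7,6,2,3,4,5,1,3,4,2,3,0,2,1,3,4,5,6,7],[5,6,2,3,4,5,1,3,4,2,3,0,2,1,3,4,5,6,7],[7,5,6,2,3,4,5,1,3,4,2,3,0,2,1,3,4,5,6,7],[6,7,5,6,2,3,4,5,1,3,4,2,3,0,2,1,3,4,5,6,7],[4,5,6,2,3,4,5,1,3,4,2,3,0,2,1,3,4,5,6,7],[7,4,5,6,2,3,4,5,1,3,4,2,3,0,2,1,3,4,5,6,7],[6,7,4,5,6,2,3,4,5,1,3,4,2,3,0,2,1,3,4,5,6,7],[5,6,7,4,5,6,2,3,4,5,1,3,4,2,3,0,2,1,3,4,5,6,7],[3,4,5,6,2,3,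4,5,1,3,4,2,3,0,2,1,3,4,5,6,7],[7,3,4,5,6,2,3,4,5,1,3,4,2,3,0,2,1,3,4,5,6,7],[6,7,3,4,5,6,2,3,4,5,1,3,4,2,3,0,2,1,3,4,5,6,7],[5,6,7,3,4,5,6,2,3,4,5,1,3,4,2,3,0,2,1,3,4,5,6,7],[4,5,6,7,3,4,5,6,2,3,4,5,1,3,4,2,3,0,2,1,3,4,5,6,7],[1,3,4,5,6,2,3,4,5,1,3,4,2,3,0,2,1,3,4,5,6,7],[7,1,3,4,5,6,2,3,4,5,1,3,4,2,3,0,2,1,3,4,5,6,7],[6,7,1,3,4,5,6,2,3,4,5,1,3,4,2,3,0,2,1,3,4,5,6,7],[5,6,7,1,3,4,5,6,2,3,4,5,1,3,4,2,3,0,2,1,3,4,5,6,7],[4,5,6,7,1,3,4,5,6,2,3,4,5,1,3,4,2,3,0,2,1,3,4,5,6,7],[3,4,5,6,7,1,3,4,5,6,2,3,4,5,1,3,4,2,3,0,2,1,3,4,5,6,7],[2,3,4,5,6,7,1,3,4,5,6,2,3,4,5,1,3,4,2,3,0,2,1,3,4,5,6,7],[0,2,3,4,5,1,3,4,2,3,0,2,1,3,4,5,6,7],[6,0,2,3,4,5,1,3,4,2,3,0,2,1,3,4,5,6,7],[7,6,0,2,3,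4,5,1,3,4,2,3,0,2,1,3,4,5,6,7],[5,6,0,2,3,4,5,1,3,4,2,3,0,2,1,3,4,5,6,7],[7,5,6,0,2,3,4,5,1,3,4,2,3,0,2,1,3,4,5,6,7],[6,7,5,6,0,2,3,4,5,1,3,4,2,3,0,2,1,3,4,5,6,7],[4,5,6,0,2,3,4,5,1,3,4,2,3,0,2,1,3,4,5,6,7],[7,4,5,6,0,2,3,4,5,1,3,4,2,3,0,2,1,3,4,5,6,7],[6,7,4,5,6,0,2,3,4,5,1,3,4,2,3,0,2,1,3,4,5,6,7],[5,6,7,4,5,6,0,2,3,4,5,1,3,4,2,3,0,2,1,3,4,5,6,7],[3,4,5,6,0,2,3,4,5,1,3,4,2,3,0,2,1,3,4,5,6,7],[7,3,4,5,6,0,2,3,4,5,1,3,4,2,3,0,2,1,3,4,5,6,7],[6,7,3,4,5,6,0,2,3,4,5,1,3,4,2,3,0,2,1,3,4,5,6,7],[5,6,7,3,4,5,6,0,2,3,4,5,1,3,4,2,3,0,2,1,3,4,5,6,7],[4,5,6,7,3,4,5,6,0,2,3,4,5,1,3,4,2,3,0,2,1,3,4,5,6,7],[2,3,4,5,6,0,2,3,4,5,1,3,4,2,3,0,2,1,3,4,5,6,7],[7,2,3,4,5,6,0,2,3,4,5,1,3,4,2,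3,0,2,1,3,4,5,6,7],[6,7,2,3,4,5,6,0,2,3,4,5,1,3,4,2,3,0,2,1,3,4,5,6,7],[5,6,7,2,3,4,5,6,0,2,3,4,5,1,3,4,2,3,0,2,1,3,4,5,6,7],[4,5,6,7,2,3,4,5,6,0,2,3,4,5,1,3,4,2,3,0,2,1,3,4,5,6,7],[3,4,5,6,7,2,3,4,5,6,0,2,3,4,5,1,3,4,2,3,0,2,1,3,4,5,6,7],[1,3,4,5,6,0,2,3,4,5,1,3,4,2,3,0,2,1,3,4,5,6,7],[7,1,3,4,5,6,0,2,3,4,5,1,3,4,2,3,0,2,1,3,4,5,6,7],[6,7,1,3,4,5,6,0,2,3,4,5,1,3,4,2,3,0,2,1,3,4,5,6,7],[5,6,7,1,3,4,5,6,0,2,3,4,5,1,3,4,2,3,0,2,1,3,4,5,6,7],[4,5,6,7,1,3,4,5,6,0,2,3,4,5,1,3,4,2,3,0,2,1,3,4,5,6,7],[3,4,5,6,7,1,3,4,5,6,0,2,3,4,5,1,3,4,2,3,0,2,1,3,4,5,6,7],[2,1,3,4,5,6,0,2,3,4,5,1,3,4,2,3,0,2,1,3,4,5,6,7],[7,2,1,3,4,5,6,0,2,3,4,5,1,3,4,2,3,0,2,1,3,4,5,6,7],[6,7,2,1,3,4,5,6,0,2,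3,4,5,1,3,4,2,3,0,2,1,3,4,5,6,7],[5,6,7,2,1,3,4,5,6,0,2,3,4,5,1,3,4,2,3,0,2,1,3,4,5,6,7],[4,5,6,7,2,1,3,4,5,6,0,2,3,4,5,1,3,4,2,3,0,2,1,3,4,5,6,7],[3,2,1,3,4,5,6,0,2,3,4,5,1,3,4,2,3,0,2,1,3,4,5,6,7],[7,3,2,1,3,4,5,6,0,2,3,4,5,1,3,4,2,3,0,2,1,3,4,5,6,7],[6,7,3,2,1,3,4,5,6,0,2,3,4,5,1,3,4,2,3,0,2,1,3,4,5,6,7],[5,6,7,3,2,1,3,4,5,6,0,2,3,4,5,1,3,4,2,3,0,2,1,3,4,5,6,7],[4,3,2,1,3,4,5,6,0,2,3,4,5,1,3,4,2,3,0,2,1,3,4,5,6,7],[7,4,3,2,1,3,4,5,6,0,2,3,4,5,1,3,4,2,3,0,2,1,3,4,5,6,7],[6,7,4,3,2,1,3,4,5,6,0,2,3,4,5,1,3,4,2,3,0,2,1,3,4,5,6,7],[5,4,3,2,1,3,4,5,6,0,2,3,4,5,1,3,4,2,3,0,2,1,3,4,5,6,7],[7,5,4,3,2,1,3,4,5,6,0,2,3,4,5,1,3,4,2,3,0,2,1,3,4,5,6,7],[6,5,4,3,2,1,3,4,5,6,0,2,3,4,5,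1,3,4,2,3,0,2,1,3,4,5,6,7],[7,6,5,4,3,2,1,3,4,5,6,0,2,3,4,5,1,3,4,2,3,0,2,1,3,4,5,6,7],[6,7,5,4,3,2,1,3,4,5,6,0,2,3,4,5,1,3,4,2,3,0,2,1,3,4,5,6,7],[6,7,6,5,4,3,2,1,3,4,5,6,0,2,3,4,5,1,3,4,2,3,0,2,1,3,4,5,6,7],[5,6,7,4,3,2,1,3,4,5,6,0,2,3,4,5,1,3,4,2,3,0,2,1,3,4,5,6,7],[5,6,7,5,4,3,2,1,3,4,5,6,0,2,3,4,5,1,3,4,2,3,0,2,1,3,4,5,6,7],[5,6,7,6,5,4,3,2,1,3,4,5,6,0,2,3,4,5,1,3,4,2,3,0,2,1,3,4,5,6,7],[4,5,6,7,3,2,1,3,4,5,6,0,2,3,4,5,1,3,4,2,3,0,2,1,3,4,5,6,7],[4,5,6,7,4,3,2,1,3,4,5,6,0,2,3,4,5,1,3,4,2,3,0,2,1,3,4,5,6,7],[4,5,6,7,5,4,3,2,1,3,4,5,6,0,2,3,4,5,1,3,4,2,3,0,2,1,3,4,5,6,7],[4,5,6,7,6,5,4,3,2,1,3,4,5,6,0,2,3,4,5,1,3,4,2,3,0,2,1,3,4,5,6,7],[3,4,5,6,7,2,1,3,4,5,6,0,2,3,4,5,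1,3,4,2,3,0,2,1,3,4,5,6,7],[3,4,5,6,7,3,2,1,3,4,5,6,0,2,3,4,5,1,3,4,2,3,0,2,1,3,4,5,6,7],[3,4,5,6,7,4,3,2,1,3,4,5,6,0,2,3,4,5,1,3,4,2,3,0,2,1,3,4,5,6,7],[3,4,5,6,7,5,4,3,2,1,3,4,5,6,0,2,3,4,5,1,3,4,2,3,0,2,1,3,4,5,6,7],[3,4,5,6,7,6,5,4,3,2,1,3,4,5,6,0,2,3,4,5,1,3,4,2,3,0,2,1,3,4,5,6,7],[2,3,4,5,6,7,1,3,4,5,6,0,2,3,4,5,1,3,4,2,3,0,2,1,3,4,5,6,7],[2,3,4,5,6,7,2,1,3,4,5,6,0,2,3,4,5,1,3,4,2,3,0,2,1,3,4,5,6,7],[2,3,4,5,6,7,3,2,1,3,4,5,6,0,2,3,4,5,1,3,4,2,3,0,2,1,3,4,5,6,7],[2,3,4,5,6,7,4,3,2,1,3,4,5,6,0,2,3,4,5,1,3,4,2,3,0,2,1,3,4,5,6,7],[2,3,4,5,6,7,5,4,3,2,1,3,4,5,6,0,2,3,4,5,1,3,4,2,3,0,2,1,3,4,5,6,7],[2,3,4,5,6,7,6,5,4,3,2,1,3,4,5,6,0,2,3,4,5,1,3,4,2,3,0,2,1,3,4,5,6,7],[1,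3,4,5,6,7,2,3,4,5,6,0,2,3,4,5,1,3,4,2,3,0,2,1,3,4,5,6,7],[1,3,4,5,6,7,2,1,3,4,5,6,0,2,3,4,5,1,3,4,2,3,0,2,1,3,4,5,6,7],[1,3,4,5,6,7,3,2,1,3,4,5,6,0,2,3,4,5,1,3,4,2,3,0,2,1,3,4,5,6,7],[1,3,4,5,6,7,4,3,2,1,3,4,5,6,0,2,3,4,5,1,3,4,2,3,0,2,1,3,4,5,6,7],[1,3,4,5,6,7,5,4,3,2,1,3,4,5,6,0,2,3,4,5,1,3,4,2,3,0,2,1,3,4,5,6,7],[1,3,4,5,6,7,6,5,4,3,2,1,3,4,5,6,0,2,3,4,5,1,3,4,2,3,0,2,1,3,4,5,6,7],[2,1,3,4,5,6,7,2,1,3,4,5,6,0,2,3,4,5,1,3,4,2,3,0,2,1,3,4,5,6,7],[2,1,3,4,5,6,7,3,2,1,3,4,5,6,0,2,3,4,5,1,3,4,2,3,0,2,1,3,4,5,6,7],[2,1,3,4,5,6,7,4,3,2,1,3,4,5,6,0,2,3,4,5,1,3,4,2,3,0,2,1,3,4,5,6,7],[2,1,3,4,5,6,7,5,4,3,2,1,3,4,5,6,0,2,3,4,5,1,3,4,2,3,0,2,1,3,4,5,6,7],[2,1,3,4,5,6,7,6,5,4,3,2,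1,3,4,5,6,0,2,3,4,5,1,3,4,2,3,0,2,1,3,4,5,6,7],[3,2,1,3,4,5,6,7,3,2,1,3,4,5,6,0,2,3,4,5,1,3,4,2,3,0,2,1,3,4,5,6,7],[3,2,1,3,4,5,6,7,4,3,2,1,3,4,5,6,0,2,3,4,5,1,3,4,2,3,0,2,1,3,4,5,6,7],[3,2,1,3,4,5,6,7,5,4,3,2,1,3,4,5,6,0,2,3,4,5,1,3,4,2,3,0,2,1,3,4,5,6,7],[3,2,1,3,4,5,6,7,6,5,4,3,2,1,3,4,5,6,0,2,3,4,5,1,3,4,2,3,0,2,1,3,4,5,6,7],[4,3,2,1,3,4,5,6,7,4,3,2,1,3,4,5,6,0,2,3,4,5,1,3,4,2,3,0,2,1,3,4,5,6,7],[4,3,2,1,3,4,5,6,7,5,4,3,2,1,3,4,5,6,0,2,3,4,5,1,3,4,2,3,0,2,1,3,4,5,6,7],[4,3,2,1,3,4,5,6,7,6,5,4,3,2,1,3,4,5,6,0,2,3,4,5,1,3,4,2,3,0,2,1,3,4,5,6,7],[5,4,3,2,1,3,4,5,6,7,5,4,3,2,1,3,4,5,6,0,2,3,4,5,1,3,4,2,3,0,2,1,3,4,5,6,7],[5,4,3,2,1,3,4,5,6,7,6,5,4,3,2,1,3,4,5,6,0,2,3,4,5,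1,3,4,2,3,0,2,1,3,4,5,6,7],[6,5,4,3,2,1,3,4,5,6,7,6,5,4,3,2,1,3,4,5,6,0,2,3,4,5,1,3,4,2,3,0,2,1,3,4,5,6,7],[0,2,3,4,5,6,7,1,3,4,5,6,2,3,4,5,1,3,4,2,3,0,2,1,3,4,5,6,7],[0,2,3,4,5,6,7,1,3,4,5,6,0,2,3,4,5,1,3,4,2,3,0,2,1,3,4,5,6,7],[0,2,3,4,5,6,7,2,1,3,4,5,6,0,2,3,4,5,1,3,4,2,3,0,2,1,3,4,5,6,7],[0,2,3,4,5,6,7,3,2,1,3,4,5,6,0,2,3,4,5,1,3,4,2,3,0,2,1,3,4,5,6,7],[0,2,3,4,5,6,7,4,3,2,1,3,4,5,6,0,2,3,4,5,1,3,4,2,3,0,2,1,3,4,5,6,7],[0,2,3,4,5,6,7,5,4,3,2,1,3,4,5,6,0,2,3,4,5,1,3,4,2,3,0,2,1,3,4,5,6,7],[0,2,3,4,5,6,7,6,5,4,3,2,1,3,4,5,6,0,2,3,4,5,1,3,4,2,3,0,2,1,3,4,5,6,7],[0,2,1,3,4,5,6,7,2,1,3,4,5,6,0,2,3,4,5,1,3,4,2,3,0,2,1,3,4,5,6,7],[0,2,1,3,4,5,6,7,3,2,1,3,4,5,6,0,2,3,4,5,1,3,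4,2,3,0,2,1,3,4,5,6,7],[0,2,1,3,4,5,6,7,4,3,2,1,3,4,5,6,0,2,3,4,5,1,3,4,2,3,0,2,1,3,4,5,6,7],[0,2,1,3,4,5,6,7,5,4,3,2,1,3,4,5,6,0,2,3,4,5,1,3,4,2,3,0,2,1,3,4,5,6,7],[0,2,1,3,4,5,6,7,6,5,4,3,2,1,3,4,5,6,0,2,3,4,5,1,3,4,2,3,0,2,1,3,4,5,6,7],[3,0,2,1,3,4,5,6,7,3,2,1,3,4,5,6,0,2,3,4,5,1,3,4,2,3,0,2,1,3,4,5,6,7],[3,0,2,1,3,4,5,6,7,4,3,2,1,3,4,5,6,0,2,3,4,5,1,3,4,2,3,0,2,1,3,4,5,6,7],[3,0,2,1,3,4,5,6,7,5,4,3,2,1,3,4,5,6,0,2,3,4,5,1,3,4,2,3,0,2,1,3,4,5,6,7],[3,0,2,1,3,4,5,6,7,6,5,4,3,2,1,3,4,5,6,0,2,3,4,5,1,3,4,2,3,0,2,1,3,4,5,6,7],[4,3,0,2,1,3,4,5,6,7,4,3,2,1,3,4,5,6,0,2,3,4,5,1,3,4,2,3,0,2,1,3,4,5,6,7],[4,3,0,2,1,3,4,5,6,7,5,4,3,2,1,3,4,5,6,0,2,3,4,5,1,3,4,2,3,0,2,1,3,4,5,6,7]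,[4,3,0,2,1,3,4,5,6,7,6,5,4,3,2,1,3,4,5,6,0,2,3,4,5,1,3,4,2,3,0,2,1,3,4,5,6,7],[5,4,3,0,2,1,3,4,5,6,7,5,4,3,2,1,3,4,5,6,0,2,3,4,5,1,3,4,2,3,0,2,1,3,4,5,6,7],[5,4,3,0,2,1,3,4,5,6,7,6,5,4,3,2,1,3,4,5,6,0,2,3,4,5,1,3,4,2,3,0,2,1,3,4,5,6,7],[6,5,4,3,0,2,1,3,4,5,6,7,6,5,4,3,2,1,3,4,5,6,0,2,3,4,5,1,3,4,2,3,0,2,1,3,4,5,6,7],[2,3,0,2,1,3,4,5,6,7,3,2,1,3,4,5,6,0,2,3,4,5,1,3,4,2,3,0,2,1,3,4,5,6,7],[2,3,0,2,1,3,4,5,6,7,4,3,2,1,3,4,5,6,0,2,3,4,5,1,3,4,2,3,0,2,1,3,4,5,6,7],[2,3,0,2,1,3,4,5,6,7,5,4,3,2,1,3,4,5,6,0,2,3,4,5,1,3,4,2,3,0,2,1,3,4,5,6,7],[2,3,0,2,1,3,4,5,6,7,6,5,4,3,2,1,3,4,5,6,0,2,3,4,5,1,3,4,2,3,0,2,1,3,4,5,6,7],[4,2,3,0,2,1,3,4,5,6,7,4,3,2,1,3,4,5,6,0,2,3,4,5,1,3,4,2,3,0,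2,1,3,4,5,6,7],[4,2,3,0,2,1,3,4,5,6,7,5,4,3,2,1,3,4,5,6,0,2,3,4,5,1,3,4,2,3,0,2,1,3,4,5,6,7],[4,2,3,0,2,1,3,4,5,6,7,6,5,4,3,2,1,3,4,5,6,0,2,3,4,5,1,3,4,2,3,0,2,1,3,4,5,6,7],[5,4,2,3,0,2,1,3,4,5,6,7,5,4,3,2,1,3,4,5,6,0,2,3,4,5,1,3,4,2,3,0,2,1,3,4,5,6,7],[5,4,2,3,0,2,1,3,4,5,6,7,6,5,4,3,2,1,3,4,5,6,0,2,3,4,5,1,3,4,2,3,0,2,1,3,4,5,6,7],[6,5,4,2,3,0,2,1,3,4,5,6,7,6,5,4,3,2,1,3,4,5,6,0,2,3,4,5,1,3,4,2,3,0,2,1,3,4,5,6,7],[3,4,2,3,0,2,1,3,4,5,6,7,4,3,2,1,3,4,5,6,0,2,3,4,5,1,3,4,2,3,0,2,1,3,4,5,6,7],[3,4,2,3,0,2,1,3,4,5,6,7,5,4,3,2,1,3,4,5,6,0,2,3,4,5,1,3,4,2,3,0,2,1,3,4,5,6,7],[3,4,2,3,0,2,1,3,4,5,6,7,6,5,4,3,2,1,3,4,5,6,0,2,3,4,5,1,3,4,2,3,0,2,1,3,4,5,6,7],[5,3,4,2,3,0,2,1,3,4,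5,6,7,5,4,3,2,1,3,4,5,6,0,2,3,4,5,1,3,4,2,3,0,2,1,3,4,5,6,7],[5,3,4,2,3,0,2,1,3,4,5,6,7,6,5,4,3,2,1,3,4,5,6,0,2,3,4,5,1,3,4,2,3,0,2,1,3,4,5,6,7],[6,5,3,4,2,3,0,2,1,3,4,5,6,7,6,5,4,3,2,1,3,4,5,6,0,2,3,4,5,1,3,4,2,3,0,2,1,3,4,5,6,7],[4,5,3,4,2,3,0,2,1,3,4,5,6,7,5,4,3,2,1,3,4,5,6,0,2,3,4,5,1,3,4,2,3,0,2,1,3,4,5,6,7],[4,5,3,4,2,3,0,2,1,3,4,5,6,7,6,5,4,3,2,1,3,4,5,6,0,2,3,4,5,1,3,4,2,3,0,2,1,3,4,5,6,7],[6,4,5,3,4,2,3,0,2,1,3,4,5,6,7,6,5,4,3,2,1,3,4,5,6,0,2,3,4,5,1,3,4,2,3,0,2,1,3,4,5,6,7],[5,6,4,5,3,4,2,3,0,2,1,3,4,5,6,7,6,5,4,3,2,1,3,4,5,6,0,2,3,4,5,1,3,4,2,3,0,2,1,3,4,5,6,7],[1,3,4,2,3,0,2,1,3,4,5,6,7,4,3,2,1,3,4,5,6,0,2,3,4,5,1,3,4,2,3,0,2,1,3,4,5,6,7],[1,3,4,2,3,0,2,1,3,4,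5,6,7,5,4,3,2,1,3,4,5,6,0,2,3,4,5,1,3,4,2,3,0,2,1,3,4,5,6,7],[1,3,4,2,3,0,2,1,3,4,5,6,7,6,5,4,3,2,1,3,4,5,6,0,2,3,4,5,1,3,4,2,3,0,2,1,3,4,5,6,7],[5,1,3,4,2,3,0,2,1,3,4,5,6,7,5,4,3,2,1,3,4,5,6,0,2,3,4,5,1,3,4,2,3,0,2,1,3,4,5,6,7],[5,1,3,4,2,3,0,2,1,3,4,5,6,7,6,5,4,3,2,1,3,4,5,6,0,2,3,4,5,1,3,4,2,3,0,2,1,3,4,5,6,7],[6,5,1,3,4,2,3,0,2,1,3,4,5,6,7,6,5,4,3,2,1,3,4,5,6,0,2,3,4,5,1,3,4,2,3,0,2,1,3,4,5,6,7],[4,5,1,3,4,2,3,0,2,1,3,4,5,6,7,5,4,3,2,1,3,4,5,6,0,2,3,4,5,1,3,4,2,3,0,2,1,3,4,5,6,7],[4,5,1,3,4,2,3,0,2,1,3,4,5,6,7,6,5,4,3,2,1,3,4,5,6,0,2,3,4,5,1,3,4,2,3,0,2,1,3,4,5,6,7],[6,4,5,1,3,4,2,3,0,2,1,3,4,5,6,7,6,5,4,3,2,1,3,4,5,6,0,2,3,4,5,1,3,4,2,3,0,2,1,3,4,5,6,7],[5,6,4,5,1,3,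4,2,3,0,2,1,3,4,5,6,7,6,5,4,3,2,1,3,4,5,6,0,2,3,4,5,1,3,4,2,3,0,2,1,3,4,5,6,7],[3,4,5,1,3,4,2,3,0,2,1,3,4,5,6,7,5,4,3,2,1,3,4,5,6,0,2,3,4,5,1,3,4,2,3,0,2,1,3,4,5,6,7],[3,4,5,1,3,4,2,3,0,2,1,3,4,5,6,7,6,5,4,3,2,1,3,4,5,6,0,2,3,4,5,1,3,4,2,3,0,2,1,3,4,5,6,7],[6,3,4,5,1,3,4,2,3,0,2,1,3,4,5,6,7,6,5,4,3,2,1,3,4,5,6,0,2,3,4,5,1,3,4,2,3,0,2,1,3,4,5,6,7],[5,6,3,4,5,1,3,4,2,3,0,2,1,3,4,5,6,7,6,5,4,3,2,1,3,4,5,6,0,2,3,4,5,1,3,4,2,3,0,2,1,3,4,5,6,7],[4,5,6,3,4,5,1,3,4,2,3,0,2,1,3,4,5,6,7,6,5,4,3,2,1,3,4,5,6,0,2,3,4,5,1,3,4,2,3,0,2,1,3,4,5,6,7],[2,3,4,5,1,3,4,2,3,0,2,1,3,4,5,6,7,5,4,3,2,1,3,4,5,6,0,2,3,4,5,1,3,4,2,3,0,2,1,3,4,5,6,7],[2,3,4,5,1,3,4,2,3,0,2,1,3,4,5,6,7,6,5,4,3,2,1,3,4,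5,6,0,2,3,4,5,1,3,4,2,3,0,2,1,3,4,5,6,7],[6,2,3,4,5,1,3,4,2,3,0,2,1,3,4,5,6,7,6,5,4,3,2,1,3,4,5,6,0,2,3,4,5,1,3,4,2,3,0,2,1,3,4,5,6,7],[5,6,2,3,4,5,1,3,4,2,3,0,2,1,3,4,5,6,7,6,5,4,3,2,1,3,4,5,6,0,2,3,4,5,1,3,4,2,3,0,2,1,3,4,5,6,7],[4,5,6,2,3,4,5,1,3,4,2,3,0,2,1,3,4,5,6,7,6,5,4,3,2,1,3,4,5,6,0,2,3,4,5,1,3,4,2,3,0,2,1,3,4,5,6,7],[3,4,5,6,2,3,4,5,1,3,4,2,3,0,2,1,3,4,5,6,7,6,5,4,3,2,1,3,4,5,6,0,2,3,4,5,1,3,4,2,3,0,2,1,3,4,5,6,7],[1,3,4,5,6,2,3,4,5,1,3,4,2,3,0,2,1,3,4,5,6,7,6,5,4,3,2,1,3,4,5,6,0,2,3,4,5,1,3,4,2,3,0,2,1,3,4,5,6,7],[0,2,3,4,5,1,3,4,2,3,0,2,1,3,4,5,6,7,5,4,3,2,1,3,4,5,6,0,2,3,4,5,1,3,4,2,3,0,2,1,3,4,5,6,7],[0,2,3,4,5,1,3,4,2,3,0,2,1,3,4,5,6,7,6,5,4,3,2,1,3,4,5,6,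0,2,3,4,5,1,3,4,2,3,0,2,1,3,4,5,6,7],[6,0,2,3,4,5,1,3,4,2,3,0,2,1,3,4,5,6,7,6,5,4,3,2,1,3,4,5,6,0,2,3,4,5,1,3,4,2,3,0,2,1,3,4,5,6,7],[5,6,0,2,3,4,5,1,3,4,2,3,0,2,1,3,4,5,6,7,6,5,4,3,2,1,3,4,5,6,0,2,3,4,5,1,3,4,2,3,0,2,1,3,4,5,6,7],[4,5,6,0,2,3,4,5,1,3,4,2,3,0,2,1,3,4,5,6,7,6,5,4,3,2,1,3,4,5,6,0,2,3,4,5,1,3,4,2,3,0,2,1,3,4,5,6,7],[3,4,5,6,0,2,3,4,5,1,3,4,2,3,0,2,1,3,4,5,6,7,6,5,4,3,2,1,3,4,5,6,0,2,3,4,5,1,3,4,2,3,0,2,1,3,4,5,6,7],[2,3,4,5,6,0,2,3,4,5,1,3,4,2,3,0,2,1,3,4,5,6,7,6,5,4,3,2,1,3,4,5,6,0,2,3,4,5,1,3,4,2,3,0,2,1,3,4,5,6,7],[1,3,4,5,6,0,2,3,4,5,1,3,4,2,3,0,2,1,3,4,5,6,7,6,5,4,3,2,1,3,4,5,6,0,2,3,4,5,1,3,4,2,3,0,2,1,3,4,5,6,7],[2,1,3,4,5,6,0,2,3,4,5,1,3,4,2,3,0,2,1,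3,4,5,6,7,6,5,4,3,2,1,3,4,5,6,0,2,3,4,5,1,3,4,2,3,0,2,1,3,4,5,6,7],[3,2,1,3,4,5,6,0,2,3,4,5,1,3,4,2,3,0,2,1,3,4,5,6,7,6,5,4,3,2,1,3,4,5,6,0,2,3,4,5,1,3,4,2,3,0,2,1,3,4,5,6,7],[4,3,2,1,3,4,5,6,0,2,3,4,5,1,3,4,2,3,0,2,1,3,4,5,6,7,6,5,4,3,2,1,3,4,5,6,0,2,3,4,5,1,3,4,2,3,0,2,1,3,4,5,6,7],[5,4,3,2,1,3,4,5,6,0,2,3,4,5,1,3,4,2,3,0,2,1,3,4,5,6,7,6,5,4,3,2,1,3,4,5,6,0,2,3,4,5,1,3,4,2,3,0,2,1,3,4,5,6,7],[6,5,4,3,2,1,3,4,5,6,0,2,3,4,5,1,3,4,2,3,0,2,1,3,4,5,6,7,6,5,4,3,2,1,3,4,5,6,0,2,3,4,5,1,3,4,2,3,0,2,1,3,4,5,6,7],[7,6,5,4,3,2,1,3,4,5,6,0,2,3,4,5,1,3,4,2,3,0,2,1,3,4,5,6,7,6,5,4,3,2,1,3,4,5,6,0,2,3,4,5,1,3,4,2,3,0,2,1,3,4,5,6,7]]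

/-- The base root of a root of type E8. -/
def genBaseE8 (r : ℕ) : ℕ := cond (Nat.beq (digit 0x0 1 r) 1) 0 0

theorem genWordsE8_spec : ∀ r, r < chevE8.nroots →
    (∀ i ∈ genWordsE8.getD r [], i < chevE8.rank) ∧ genBaseE8 r < chevE8.nroots ∧
    wperm digE8.tbl (genWordsE8.getD r []) (genBaseE8 r) = r := by decide +kernel

theorem genBaseE8_short : ∀ i, i < chevE8.rank → chevE8.isLong (chevE8.simple i) = false →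
    genBaseE8 (chevE8.simple i) = 0 := by decide +kernel

theorem genBaseE8_long : ∀ i, i < chevE8.rank → chevE8.isLong (chevE8.simple i) = true →
    genBaseE8 (chevE8.simple i) = 0 := by decide +kernel

theorem genBaseE8_val : ∀ r, r < chevE8.nroots → genBaseE8 r = 0 ∨ genBaseE8 r = 0 := by decide +kernel

theorem genLtE8 : 0 < chevE8.nroots ∧ 0 < chevE8.nroots := by decide +kernel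
end Cfsg.Agent.Lib.Chev
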